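import Cfsg.Agent.Lib.PGroups.MacWilliams.Image
import Cfsg.Prelude.Def_CaseTheorems

/-!
# MacWilliams' four generator theorem

If a finite two-group has no normal elementary abelian subgroup of order eight, the Frattini
subgroup of each of its subgroups has index at most sixteen.
-/

set_option autoImplicit false
set_option linter.unusedSectionVars false
set_option linter.style.haveILetI false

namespace CfsgLib.PGroups.MacWilliams

open Subgroup
open scoped commutatorElement

variable {G : Type*} [Group G] [Finite G] {H : Type*} [Group H] [Finite H]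

theorem relIndex_C_le (S : Setup G) (hG : IsPGroup 2 G) (ι : H →* G) (hι : Function.Injective ι) :
    (frattini H).relIndex (S.C.comap ι) ≤ Nat.card S.E ∧
      ∀ x : H, ι x ^ 2 ∈ S.C → ι x ^ 2 ∉ (frattini ↥S.C).map S.C.subtype →
        2 * (frattini H).relIndex (S.C.comap ι) ≤ Nat.card S.E := by
  haveI : Fact (Nat.Prime 2) := ⟨Nat.prime_two⟩
  set C' := S.C.comap ι with hC'
  haveI : C'.Normal := inferInstance
  have hH : IsPGroup 2 H := hG.of_injective ι hι
  have hC'2 : IsPGroup 2 C' := hH.to_subgroup _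
  have hhyp : Hyp4 C' := fun x hx => mem_center_iff.2 fun y => Subtype.ext (hι (by
    rw [Subgroup.coe_mul, Subgroup.coe_mul, map_mul, map_mul]
    exact (S.mem_C.1 y.2 _ (S.mem_A_of_mem_C x.2 (by
      rw [← map_pow, ← SubmonoidClass.coe_pow, hx, OneMemClass.coe_one, map_one]))).symm))
  have hsol : Nat.card {x : C' // x ^ 2 = 1} ≤ Nat.card S.E :=
    Nat.card_le_card_of_injective
      (fun x => (⟨ι ((x.1 : C') : H), S.mem_E_of_mem_C x.1.2 (by
        rw [← map_pow, ← SubmonoidClass.coe_pow, x.2, OneMemClass.coe_one, map_one])⟩ : S.E))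
      fun a b hab => Subtype.ext (Subtype.ext (hι (congrArg (fun z : S.E => (z : G)) hab)))
  have hidx : (frattini C').index ≤ Nat.card S.E := (index_frattini_le hC'2 hhyp).trans hsol
  have hle : frattini C' ≤ (frattini H).subgroupOf C' :=
    Subgroup.map_le_iff_le_comap.1 (Base.map_frattini_le_frattini C')
  refine ⟨(Nat.le_of_dvd (Nat.pos_of_ne_zero Subgroup.index_ne_zero_of_finite)
    (Subgroup.index_dvd_of_le hle)).trans hidx, fun x hxC hxΦ => ?_⟩
  -- the square of `x` is outside the Frattini subgroup of `C'`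
  let j : ↥C' →* ↥S.C := (ι.comp C'.subtype).codRestrict S.C fun c => c.2
  set N := (frattini ↥S.C).comap j
  have hS2 : IsPGroup 2 S.C := hG.to_subgroup _
  have hN : frattini C' ≤ N := by
    haveI : N.Normal := inferInstance
    refine frattini_le_of_elementary_quotient (p := 2) ?_ fun g => ?_
    · rw [← Subgroup.map_le_iff_le_comap]
      refine le_trans ?_ (commutator_le_frattini hS2)
      rw [commutator_def, Subgroup.map_commutator]
      exact commutator_mono le_top le_top
    · show j (g ^ 2) ∈ frattini ↥S.C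
      rw [map_pow]
      exact pow_mem_frattini hS2 _
  have hxC' : x ^ 2 ∈ C' := by show ι (x ^ 2) ∈ S.C; rw [map_pow]; exact hxC
  have hnot : (⟨x ^ 2, hxC'⟩ : C') ∉ frattini C' := fun h => hxΦ
    ⟨j ⟨x ^ 2, hxC'⟩, hN h, map_pow ι x 2⟩
  have hin : (⟨x ^ 2, hxC'⟩ : C') ∈ (frattini H).subgroupOf C' :=
    Subgroup.mem_subgroupOf.2 (pow_mem_frattini hH x)
  have h2 : 2 ≤ (frattini C').relIndex ((frattini H).subgroupOf C') := by
    have h0 : (frattini C').relIndex ((frattini H).subgroupOf C') ≠ 0 := Nat.pos_iff_ne_zero.1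
      (Nat.pos_of_ne_zero Subgroup.index_ne_zero_of_finite)
    have h1 : (frattini C').relIndex ((frattini H).subgroupOf C') ≠ 1 := fun h =>
      hnot (Subgroup.relIndex_eq_one.1 h hin)
    omega
  refine le_trans ?_ hidx
  rw [← Subgroup.relIndex_mul_index hle]
  exact Nat.mul_le_mul_right _ h2

theorem exists_full_or_small (S : Setup G) (hG : IsPGroup 2 G) (h4 : Nat.card S.E ≤ 4) :
    (∃ a1 : ↥S.A, ∀ a : ↥S.A, (a : G) ^ 2 = 1 ∨ (a : G) ^ 2 = (a1 : G) ^ 2) ∨ Nonempty (Full S) := by
  refine or_iff_not_imp_left.2 fun hno => ?_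
  simp only [not_exists, not_forall, not_or] at hno
  obtain ⟨a, ha, -⟩ := hno 1
  obtain ⟨b, hb, hba⟩ := hno a
  set p : ↥S.E := ⟨(a : G) ^ 2, S.sq_mem_E a.2⟩
  set q : ↥S.E := ⟨(b : G) ^ 2, S.sq_mem_E b.2⟩
  obtain ⟨hcard, hall⟩ := S.four_elements h4 p.2 q.2 ha hb (Ne.symm hba)
  obtain ⟨z, hzE, hzc, hz1, hmove, hidx⟩ := S.exists_central hG h4
  have hEne : S.E ≠ ⊥ := fun h => ha (Subgroup.mem_bot.1 (h ▸ p.2))
  have hz1' := hz1 hEne
  have hab : ((a * b : ↥S.A) : G) ^ 2 = (a : G) ^ 2 * (b : G) ^ 2 := by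
    rw [Subgroup.coe_mul]
    exact (show Commute (a : G) (b : G) from S.comm _ a.2 _ b.2).mul_pow 2
  obtain ⟨a1, ha1⟩ : ∃ a1 : ↥S.A, (a1 : G) ^ 2 = z := by
    rcases hall z hzE with h | h | h | h
    · exact absurd h hz1'
    · exact ⟨a, h.symm⟩
    · exact ⟨b, h.symm⟩
    · exact ⟨a * b, hab.trans h.symm⟩
  obtain ⟨a2, ha21, ha2z⟩ : ∃ a2 : ↥S.A, (a2 : G) ^ 2 ≠ 1 ∧ (a2 : G) ^ 2 ≠ z := by
    by_cases h : (a : G) ^ 2 = z
    · exact ⟨b, hb, fun h' => hba (h'.trans h.symm)⟩
    · exact ⟨a, ha, h⟩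
  set Z : ↥S.E := ⟨z, hzE⟩
  set E' : ↥S.E := ⟨(a2 : G) ^ 2, S.sq_mem_E a2.2⟩
  obtain ⟨-, hall'⟩ := S.four_elements h4 Z.2 E'.2 hz1' ha21 (Ne.symm ha2z)
  refine ⟨⟨a1, a2, Z, E', ha1, rfl, hzc, fun h => hz1' (congrArg Subtype.val h),
    fun h => ha21 (congrArg Subtype.val h), fun h => ha2z (congrArg Subtype.val h), hcard,
    fun x => ?_, fun g hg => ?_, hidx⟩⟩
  · rcases hall' x x.2 with h | h | h | h
    · exact Or.inl (Subtype.ext h)
    · exact Or.inr (Or.inl (Subtype.ext h))
    · exact Or.inr (Or.inr (Or.inl (Subtype.ext h)))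
    · exact Or.inr (Or.inr (Or.inr (Subtype.ext h)))
  · rcases hmove g hg _ E'.2 with h | h | h
    · exact absurd h ha21
    · exact absurd h ha2z
    · exact h

/-- The final multiplication of the three bounds. -/
theorem mul_three_le {a b c A B C : ℕ} (ha : a ≤ A) (hb : b ≤ B) (hc : c ≤ C) :
    a * b * c ≤ A * B * C := Nat.mul_le_mul (Nat.mul_le_mul ha hb) hc

/-- **MacWilliams.** Without normal elementary abelian subgroups of order eight, the Frattini
subgroup of a subgroup has index at most sixteen. -/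
theorem index_frattini_le_sixteen (hG : IsPGroup 2 G)
    (h8 : ∀ A : Subgroup G, A.Normal → IsMulCommutative A → (∀ a ∈ A, a ^ 2 = 1) → Nat.card A ≤ 4)
    (ι : H →* G) (hι : Function.Injective ι) : (frattini H).index ≤ 16 := by
  haveI : Fact (Nat.Prime 2) := ⟨Nat.prime_two⟩
  have hH : IsPGroup 2 H := hG.of_injective ι hι
  obtain ⟨S⟩ := exists_setup hG
  have h4 : Nat.card S.E ≤ 4 := h8 S.E inferInstance
    ⟨⟨fun a b => Subtype.ext (S.comm a a.2.1 b b.2.1)⟩⟩ fun a ha => ha.2
  obtain ⟨z, hzE, hzc, -, hmove, hKi⟩ := S.exists_central hG h4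
  set C' := S.C.comap ι
  set K' := S.K.comap ι
  haveI : C'.Normal := inferInstance
  haveI : K'.Normal := inferInstance
  obtain ⟨hCb, hCb2⟩ := relIndex_C_le S hG ι hι
  refine (index_frattini_le_mul C' K' (Subgroup.comap_mono S.C_le_K)).trans ?_
  have hKidx : K'.index ≤ 2 := by
    rw [Subgroup.index_comap]
    exact le_trans (Nat.le_of_dvd (Nat.pos_of_ne_zero Subgroup.index_ne_zero_of_finite)
      (Subgroup.relIndex_dvd_index_of_normal S.K ι.range)) hKi
  let incl : ↥K' →* ↥S.K := (ι.comp K'.subtype).codRestrict S.K fun k => k.2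
  have hincl : ∀ k, (incl k : G) = ι (k : H) := fun k => rfl
  -- conjugation by an element outside `K'`
  have hconj : ∀ t : H, ∀ k : ↥K', incl ((MulAut.conjNormal t).toMonoidHom k) =
      ⟨ι t * incl k * (ι t)⁻¹, (inferInstance : S.K.Normal).conj_mem _ (incl k).2 _⟩ := fun t k => by
    apply Subtype.ext
    show ι ((MulAut.conjNormal t k : ↥K') : H) = ι t * ι (k : H) * (ι t)⁻¹
    rw [MulAut.conjNormal_apply, map_mul, map_mul, map_inv]
  have hcF : ∀ t : H, ∀ k : ↥K', (((MulAut.conjNormal t).toMonoidHom k : ↥K') : H) * (k : H)⁻¹ ∈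
      frattini H := fun t k => by
    refine commutator_le_frattini hH ?_
    show ((MulAut.conjNormal t k : ↥K') : H) * (k : H)⁻¹ ∈ _
    rw [MulAut.conjNormal_apply, show t * (k : H) * t⁻¹ * (k : H)⁻¹ = ⁅t, (k : H)⁆ from rfl]
    exact commutator_mem_commutator (mem_top _) (mem_top _)
  rcases exists_full_or_small S hG h4 with ⟨a1, ha1⟩ | ⟨⟨F⟩⟩
  · set f : ↥K' →* ↥S.E := (S.br a1).comp incl with hf
    have hker : f.ker = C'.subgroupOf K' := by
      ext k
      rw [MonoidHom.mem_ker, Subgroup.mem_subgroupOf]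
      refine ⟨fun h => show (incl k : G) ∈ S.C from S.mem_C_of_br fun a => ?_,
        fun h => S.br_of_mem_C (x := incl k) h a1⟩
      rcases ha1 a with ha | ha
      · exact S.br_of_sq_eq_one a ha _
      · rw [S.br_eq_of_sq_eq a a1 ha]; exact h
    have hB1 := (relIndex_le_range C' K' f hker).trans
      (Nat.card_le_card_of_injective (f.range.subtype) Subtype.val_injective)
    by_cases hKtop : K' = ⊤
    · refine (mul_three_le hCb hB1 (le_of_eq (by rw [hKtop, Subgroup.index_top]))).trans ?_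
      exact (mul_three_le h4 h4 le_rfl).trans (by norm_num)
    obtain ⟨t, -, ht⟩ := SetLike.exists_of_lt (lt_top_iff_ne_top.2 hKtop)
    have hB2 : (C' ⊔ frattini H).relIndex K' ≤ 2 := by
      refine (relIndex_le_fixed C' K' f hker (MulAut.conjNormal t).toMonoidHom (fun k hk => ?_)
        (hcF t)).trans ?_
      · rw [hker, Subgroup.mem_subgroupOf] at hk ⊢
        show ((MulAut.conjNormal t k : ↥K') : H) ∈ C'
        rw [MulAut.conjNormal_apply]
        exact (inferInstance : C'.Normal).conj_mem _ hk t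
      refine card_le_two_of_subset _ 1 ⟨z, hzE⟩ ?_
      rintro _ ⟨k, hk, rfl⟩
      have hk' : S.br a1 (incl ((MulAut.conjNormal t).toMonoidHom k)) = f k := hk
      rw [hconj] at hk'
      have h2 := congrArg Subtype.val hk'
      rw [S.br_conj, S.br_eq_of_sq_eq
        (⟨(ι t)⁻¹ * a1 * ι t, by simpa using S.normal.conj_mem _ a1.2 (ι t)⁻¹⟩ : ↥S.A) a1] at h2
      · rcases hmove (ι t) ht (f k : G) (f k).2 with h | h | h
        · exact Or.inl (Subtype.ext h)
        · exact Or.inr (Subtype.ext h)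
        · have h3 : ι t * (f k : G) * (ι t)⁻¹ = (f k : G) := h2
          rw [h, mul_eq_right] at h3
          refine absurd (S.mem_K.2 fun x hx => ?_) ht
          have hgx : ι t * x * (ι t)⁻¹ = x := by
            rcases hmove (ι t) ht x hx with hx' | hx' | hx'
            · rw [hx']; group
            · rw [hx']; exact hzc _
            · rw [hx', h3, one_mul]
          conv_lhs => rw [← hgx]
          rw [inv_mul_cancel_right]
      · show ((ι t)⁻¹ * (a1 : G) * ι t) ^ 2 = (a1 : G) ^ 2
        rcases ha1 ⟨(ι t)⁻¹ * a1 * ι t, by simpa using S.normal.conj_mem _ a1.2 (ι t)⁻¹⟩ with h | h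
        · change ((ι t)⁻¹ * (a1 : G) * ι t) ^ 2 = 1 at h
          rw [h]
          rw [show (ι t)⁻¹ * (a1 : G) * ι t = (ι t)⁻¹ * (a1 : G) * ((ι t)⁻¹)⁻¹ by rw [inv_inv],
            conj_pow, conj_eq_one_iff] at h
          exact h.symm
        · exact h
    exact (mul_three_le (hCb.trans h4) hB2 hKidx).trans (by norm_num)
  · set f : ↥K' →* ↥S.E × ↥S.E := F.θ.comp incl with hf
    have hker : f.ker = C'.subgroupOf K' := by
      ext k
      rw [MonoidHom.mem_ker, Subgroup.mem_subgroupOf]
      exact F.θ_eq_one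
    have hwit : ∀ k : ↥K', (∀ x : ↥S.K, F.θ x = f k → (x : G) ^ 2 ∉ F.ΦC) →
        (frattini H).relIndex C' ≤ 2 := fun k hk => by
      have h1 : 2 * (frattini H).relIndex C' ≤ Nat.card S.E :=
        hCb2 (k : H) (F.sq_mem_C (incl k)) (hk (incl k) rfl)
      clear_value C'
      omega
    by_cases hKtop : K' = ⊤
    · have hi : K'.index ≤ 1 := le_of_eq (by rw [hKtop, Subgroup.index_top])
      have hB := relIndex_le_range C' K' f hker
      by_cases hbig : 4 < Nat.card f.range
      · obtain ⟨h8', u, ⟨k, rfl⟩, hk⟩ := F.large_image hG h8 f.range (by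
          rintro _ ⟨k, rfl⟩
          exact ⟨incl k, rfl⟩) hbig
        exact (mul_three_le (hwit k hk) (hB.trans h8') hi).trans (by norm_num)
      · exact (mul_three_le (hCb.trans h4) (hB.trans (not_lt.1 hbig)) hi).trans (by norm_num)
    obtain ⟨t, -, ht⟩ := SetLike.exists_of_lt (lt_top_iff_ne_top.2 hKtop)
    have hB2 := relIndex_le_fixed C' K' f hker (MulAut.conjNormal t).toMonoidHom (fun k hk => by
        rw [hker, Subgroup.mem_subgroupOf] at hk ⊢
        show ((MulAut.conjNormal t k : ↥K') : H) ∈ C'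
        rw [MulAut.conjNormal_apply]
        exact (inferInstance : C'.Normal).conj_mem _ hk t) (hcF t)
    revert hB2
    generalize hXdef : ((f.comp (MulAut.conjNormal t).toMonoidHom).eqLocus f |>.map f) = X
    intro hB2
    obtain ⟨hX4, hX2⟩ := F.card_fixed_le X (by
      rw [← hXdef]
      rintro _ ⟨k, hk, rfl⟩
      refine F.fixed_cases (k := incl k) (g := ι t) ht ?_
      rw [← hconj t k]
      exact hk)
    by_cases hN : ((1, F.z) : ↥S.E × ↥S.E) ∈ X
    · rw [← hXdef] at hN
      obtain ⟨k, -, hk⟩ := hN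
      exact (mul_three_le (hwit k fun x hx => F.sq_notMem_of_one_z hG h8 (hx.trans hk))
        (hB2.trans hX4) hKidx).trans (by norm_num)
    · exact (mul_three_le (hCb.trans h4) (hB2.trans (hX2 hN)) hKidx).trans (by norm_num)

/-- An elementary abelian section has order at most sixteen. -/
theorem sectionalPRankLE_four (hG : IsPGroup 2 G)
    (h8 : ∀ A : Subgroup G, A.Normal → IsMulCommutative A → (∀ a ∈ A, a ^ 2 = 1) → Nat.card A ≤ 4) :
    Cfsg.SectionalPRankLE 2 4 G := by
  intro K N _ A hAc hA2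
  set L := A.comap (QuotientGroup.mk' N)
  have hL := index_frattini_le_sixteen (H := L) hG h8 (K.subtype.comp L.subtype)
    (K.subtype_injective.comp L.subtype_injective)
  let ψ : ↥L →* ↥A := ((QuotientGroup.mk' N).comp L.subtype).codRestrict A fun x => x.2
  have hψ : Function.Surjective ψ := by
    rintro ⟨a, ha⟩
    obtain ⟨x, rfl⟩ := QuotientGroup.mk'_surjective N a
    exact ⟨⟨x, ha⟩, rfl⟩
  have hker : frattini ↥L ≤ ψ.ker := by
    refine frattini_le_of_elementary_quotient (p := 2) ?_ fun g => ?_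
    · rw [commutator_def, Subgroup.commutator_le]
      intro x _ y _
      rw [MonoidHom.mem_ker, map_commutatorElement, commutatorElement_eq_one_iff_mul_comm]
      exact hAc.is_comm.comm _ _
    · rw [MonoidHom.mem_ker, map_pow]
      exact Subtype.ext (hA2 _ (ψ g).2)
  have hcard : Nat.card A = ψ.ker.index := by
    rw [Subgroup.index_ker, MonoidHom.range_eq_top.2 hψ, Subgroup.card_top]
  rw [hcard]
  exact (Nat.le_of_dvd (Nat.pos_of_ne_zero Subgroup.index_ne_zero_of_finite)
    (Subgroup.index_dvd_of_le hker)).trans hL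

end CfsgLib.PGroups.MacWilliams
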