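import Cfsg.Agent.Lib.PGroups.MacWilliams.Hyp
import Cfsg.Agent.Lib.Base.Frattini

/-!
# The index of the Frattini subgroup through a normal series and an abelian image
-/

set_option autoImplicit false
set_option linter.unusedSectionVars false
set_option linter.style.haveILetI false

namespace CfsgLib.PGroups.MacWilliams

open Subgroup
open scoped commutatorElement

variable {G V : Type*} [Group G] [CommGroup V]

/-- The points of the image on which `c` is trivial, and the image of the displacement. -/
theorem card_range_eq (f : G →* V) (c : G →* G) (hc : ∀ k ∈ f.ker, c k ∈ f.ker) :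
    Nat.card f.range =
      Nat.card (f.comp c / f).range * Nat.card ((f.comp c).eqLocus f |>.map f) := by
  set j := f.comp c / f with hj
  have hker : j.ker = (f.comp c).eqLocus f := by
    ext k
    simp only [hj, MonoidHom.mem_ker, MonoidHom.div_apply, div_eq_one, MonoidHom.comp_apply]
    rfl
  have hle : f.ker ≤ j.ker := by
    intro k hk
    rw [MonoidHom.mem_ker, hj, MonoidHom.div_apply, MonoidHom.comp_apply,
      MonoidHom.mem_ker.1 (hc k hk), MonoidHom.mem_ker.1 hk, div_one]
  rw [← hker, ← Subgroup.index_ker f, ← Subgroup.index_ker j, ← Subgroup.relIndex_ker j.ker f,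
    mul_comm, Subgroup.relIndex_mul_index hle]

variable {H : Type*} [Group H] [Finite H]

/-- Splitting the index of the Frattini subgroup along two normal subgroups. -/
theorem index_frattini_le_mul (C K : Subgroup H) [C.Normal] [K.Normal] (hCK : C ≤ K) :
    (frattini H).index ≤
      (frattini H).relIndex C * (C ⊔ frattini H).relIndex K * K.index := by
  set F := frattini H
  haveI : F.Normal := inferInstance
  haveI : (C ⊔ F).Normal := inferInstance
  have h1 : F.relIndex (C ⊔ F) = F.relIndex C := Subgroup.relIndex_sup_right _ _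
  have h2 : (C ⊔ F).relIndex (K ⊔ F) = (C ⊔ F).relIndex K := by
    rw [← Subgroup.relIndex_sup_right (H := K) (K := C ⊔ F), sup_left_comm, sup_eq_right.2
      (le_sup_left.trans' hCK : C ≤ K ⊔ F)]
  rw [← Subgroup.relIndex_mul_index (le_sup_right : F ≤ C ⊔ F), h1,
    ← Subgroup.relIndex_mul_index (sup_le_sup_right hCK F : C ⊔ F ≤ K ⊔ F), h2, ← mul_assoc]
  exact Nat.mul_le_mul_left _
    (Nat.le_of_dvd (Nat.pos_of_ne_zero Subgroup.index_ne_zero_of_finite)
      (Subgroup.index_dvd_of_le le_sup_left))

variable (C K : Subgroup H) [C.Normal] (f : K →* V) (hker : f.ker = C.subgroupOf K)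

theorem relIndex_le_range (hker : f.ker = C.subgroupOf K) :
    (C ⊔ frattini H).relIndex K ≤ Nat.card f.range := by
  rw [← Subgroup.index_ker f, hker]
  exact Nat.le_of_dvd (Nat.pos_of_ne_zero Subgroup.index_ne_zero_of_finite)
    (Subgroup.index_dvd_of_le (Subgroup.comap_mono le_sup_left))

/-- An automorphism of `K` trivial modulo the Frattini subgroup leaves only its fixed points. -/
theorem relIndex_le_fixed (hker : f.ker = C.subgroupOf K) (c : K →* K)
    (hc : ∀ k ∈ f.ker, c k ∈ f.ker)
    (hcF : ∀ k : K, (c k : H) * (k : H)⁻¹ ∈ frattini H) :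
    (C ⊔ frattini H).relIndex K ≤ Nat.card ((f.comp c).eqLocus f |>.map f) := by
  set X := (C ⊔ frattini H).subgroupOf K with hX
  have hfX : f.ker ≤ X := hker ▸ Subgroup.comap_mono le_sup_left
  have hj : (f.comp c / f).range ≤ X.map f := by
    rintro _ ⟨k, rfl⟩
    refine ⟨c k * k⁻¹, ?_, ?_⟩
    · simpa [hX, Subgroup.mem_subgroupOf] using mem_sup_right (hcF k)
    · rw [map_mul, map_inv, MonoidHom.div_apply, MonoidHom.comp_apply, div_eq_mul_inv]
  haveI : Finite f.range := Finite.of_surjective _ f.rangeRestrict_surjective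
  haveI : Finite ↥(X.map f) :=
    Finite.of_injective _ (Subgroup.inclusion_injective (Subgroup.map_le_range f X))
  have h1 : Nat.card (X.map f) * X.index = Nat.card f.range := by
    rw [← Subgroup.index_ker f, ← Subgroup.relIndex_ker X f, Subgroup.relIndex_mul_index hfX]
  rw [card_range_eq f c hc] at h1
  have h2 : Nat.card (f.comp c / f).range ≤ Nat.card (X.map f) :=
    Nat.card_le_card_of_injective _ (Subgroup.inclusion_injective hj)
  show X.index ≤ _
  refine Nat.le_of_mul_le_mul_left ?_ (Nat.card_pos (α := X.map f))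
  rw [h1]
  exact Nat.mul_le_mul_right _ h2

end CfsgLib.PGroups.MacWilliams
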