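import Cfsg.Agent.Lib.PGroups.MacWilliams.Max

/-!
# The action of the centralizer of `E` on `A / E`
-/

set_option autoImplicit false
set_option linter.unusedSectionVars false
set_option linter.style.haveILetI false

namespace CfsgLib.PGroups.MacWilliams

open Subgroup
open scoped commutatorElement

variable {G : Type*} [Group G] [Finite G]

namespace Setup

variable (S : Setup G)

instance instCommGroupE : CommGroup ↥S.E :=
  { (inferInstance : Group ↥S.E) with
    mul_comm := fun a b => Subtype.ext (S.comm a a.2.1 b b.2.1) }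

theorem sq_mem_E {a : G} (ha : a ∈ S.A) : a ^ 2 ∈ S.E :=
  ⟨pow_mem ha 2, by rw [← pow_mul]; exact S.exp4 a ha⟩

theorem E_inv {v : G} (hv : v ∈ S.E) : v⁻¹ = v := by
  rw [inv_eq_iff_mul_eq_one, ← pow_two, hv.2]

theorem E_sq (v : ↥S.E) : v * v = 1 := Subtype.ext (by
  rw [Subgroup.coe_mul, Subgroup.coe_one, ← pow_two]; exact v.2.2)

theorem conj_E {x v : G} (hx : x ∈ S.K) (hv : v ∈ S.E) : x * v * x⁻¹ = v := by
  rw [← S.mem_K.1 hx v hv, mul_inv_cancel_right]

theorem bracket_mem {x a : G} (hx : x ∈ S.K) (ha : a ∈ S.A) : ⁅x, a⁆ ∈ S.E := by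
  have h1 : x * a * x⁻¹ ∈ S.A := S.normal.conj_mem a ha x
  refine ⟨mul_mem h1 (inv_mem ha), ?_⟩
  rw [commutatorElement_def,
    (show Commute (x * a * x⁻¹) a⁻¹ from S.comm _ h1 _ (inv_mem ha)).mul_pow, conj_pow,
    S.conj_E hx (S.sq_mem_E ha), inv_pow, mul_inv_cancel]

/-- `x ↦ [x, a]`. -/
def br (a : ↥S.A) : ↥S.K →* ↥S.E :=
  MonoidHom.mk' (fun x => ⟨⁅(x : G), (a : G)⁆, S.bracket_mem x.2 a.2⟩) fun x y => by
    rw [mul_comm]
    apply Subtype.ext
    show ⁅(x : G) * (y : G), (a : G)⁆ = ⁅(y : G), (a : G)⁆ * ⁅(x : G), (a : G)⁆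
    rw [show ⁅(x : G) * (y : G), (a : G)⁆ =
      (x : G) * ⁅(y : G), (a : G)⁆ * (x : G)⁻¹ * ⁅(x : G), (a : G)⁆ by
      simp only [commutatorElement_def]; group, S.conj_E x.2 (S.bracket_mem y.2 a.2)]

theorem br_coe (a : ↥S.A) (x : ↥S.K) : (S.br a x : G) = ⁅(x : G), (a : G)⁆ := rfl

theorem conj_eq_br (a : ↥S.A) (x : ↥S.K) :
    (x : G) * a * (x : G)⁻¹ = (S.br a x : G) * a := by
  rw [br_coe, commutatorElement_def, inv_mul_cancel_right]

theorem br_mul (a b : ↥S.A) (x : ↥S.K) : S.br (a * b) x = S.br a x * S.br b x := by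
  apply Subtype.ext
  rw [Subgroup.coe_mul, br_coe, br_coe, br_coe, Subgroup.coe_mul,
    show ⁅(x : G), (a : G) * (b : G)⁆ = ⁅(x : G), (a : G)⁆ * ((a : G) * ⁅(x : G), (b : G)⁆ * (a : G)⁻¹) by
    simp only [commutatorElement_def]; group]
  rw [S.comm a a.2 _ (S.bracket_mem x.2 b.2).1, mul_inv_cancel_right]

theorem br_one (x : ↥S.K) : S.br 1 x = 1 := by
  apply Subtype.ext
  rw [br_coe, OneMemClass.coe_one, commutatorElement_one_right, OneMemClass.coe_one]

theorem br_of_sq_eq_one (a : ↥S.A) (ha : (a : G) ^ 2 = 1) (x : ↥S.K) : S.br a x = 1 := by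
  apply Subtype.ext
  rw [br_coe, commutatorElement_def, S.conj_E x.2 ⟨a.2, ha⟩, OneMemClass.coe_one, mul_inv_cancel]

theorem br_eq_of_sq_eq (a b : ↥S.A) (h : (a : G) ^ 2 = (b : G) ^ 2) (x : ↥S.K) :
    S.br a x = S.br b x := by
  have h1 : ((a * b⁻¹ : ↥S.A) : G) ^ 2 = 1 := by
    rw [Subgroup.coe_mul, InvMemClass.coe_inv,
      (show Commute (a : G) (b : G)⁻¹ from S.comm _ a.2 _ (inv_mem b.2)).mul_pow, inv_pow, h,
      mul_inv_cancel]
  calc S.br a x = S.br (a * b⁻¹ * b) x := by rw [inv_mul_cancel_right]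
    _ = S.br b x := by rw [br_mul, S.br_of_sq_eq_one _ h1 x, one_mul]

/-- Conjugation of the bracket. -/
theorem br_conj (a : ↥S.A) (g : G) (x : ↥S.K) :
    (S.br a ⟨g * x * g⁻¹, (inferInstance : S.K.Normal).conj_mem _ x.2 g⟩ : G) =
      g * (S.br ⟨g⁻¹ * a * g, by simpa using S.normal.conj_mem _ a.2 g⁻¹⟩ x : G) * g⁻¹ := by
  rw [br_coe, br_coe]
  simp only [commutatorElement_def]
  group

/-- An element of `K` acting trivially through `br` lies in `C`. -/
theorem mem_C_of_br {x : ↥S.K} (h : ∀ a : ↥S.A, S.br a x = 1) : (x : G) ∈ S.C := by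
  refine S.mem_C.2 fun a ha => ?_
  have h1 := congrArg Subtype.val (h ⟨a, ha⟩)
  rw [br_coe, OneMemClass.coe_one, commutatorElement_eq_one_iff_mul_comm] at h1
  exact h1.symm

theorem br_of_mem_C {x : ↥S.K} (hx : (x : G) ∈ S.C) (a : ↥S.A) : S.br a x = 1 := by
  apply Subtype.ext
  rw [br_coe, OneMemClass.coe_one, commutatorElement_eq_one_iff_mul_comm]
  exact (S.mem_C.1 hx a a.2).symm

theorem four_elements (h4 : Nat.card S.E ≤ 4) {v w : G} (hv : v ∈ S.E) (hw : w ∈ S.E)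
    (hv1 : v ≠ 1) (hw1 : w ≠ 1) (hvw : v ≠ w) :
    Nat.card S.E = 4 ∧ ∀ x ∈ S.E, x = 1 ∨ x = v ∨ x = w ∨ x = v * w := by
  classical
  have h3 : v * w ≠ 1 := fun h => hvw (by rw [eq_inv_of_mul_eq_one_left h, S.E_inv hw])
  have h5 : v ≠ v * w := fun h => hw1 (mul_eq_left.1 h.symm)
  have h6 : w ≠ v * w := fun h => hv1 (mul_eq_right.1 h.symm)
  set T : Finset G := {1, v, w, v * w}
  have hT : T.card = 4 := by
    simp only [T]
    rw [Finset.card_insert_of_notMem (by simp [Ne.symm hv1, Ne.symm hw1, Ne.symm h3]),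
      Finset.card_insert_of_notMem (by simp [hvw, hw1]),
      Finset.card_insert_of_notMem (by simp [hv1]), Finset.card_singleton]
  have hsub : (T : Set G) ⊆ (S.E : Set G) := by
    intro x hx
    simp only [T, Finset.coe_insert, Finset.coe_singleton, Set.mem_insert_iff,
      Set.mem_singleton_iff] at hx
    rcases hx with rfl | rfl | rfl | rfl
    exacts [one_mem _, hv, hw, mul_mem hv hw]
  have hcard : Nat.card S.E = (S.E : Set G).ncard := rfl
  have hle := Set.ncard_le_ncard hsub (Set.toFinite _)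
  rw [Set.ncard_coe_finset, hT, ← hcard] at hle
  refine ⟨le_antisymm h4 hle, fun x hx => ?_⟩
  have heq : (T : Set G) = (S.E : Set G) := Set.eq_of_subset_of_ncard_le hsub
    (by rw [Set.ncard_coe_finset, hT, ← hcard]; exact h4) (Set.toFinite _)
  have hxT : x ∈ (T : Set G) := heq.symm ▸ hx
  simpa [T] using hxT

/-- A central element of `E` governing the action of `G` on `E`. -/
theorem exists_central (hG : IsPGroup 2 G) (h4 : Nat.card S.E ≤ 4) :
    ∃ z ∈ S.E, (∀ g, g * z * g⁻¹ = z) ∧ (S.E ≠ ⊥ → z ≠ 1) ∧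
      (∀ g, g ∉ S.K → ∀ v ∈ S.E, v = 1 ∨ v = z ∨ g * v * g⁻¹ = z * v) ∧ S.K.index ≤ 2 := by
  haveI : Fact (Nat.Prime 2) := ⟨Nat.prime_two⟩
  obtain ⟨z, hzE, hzc, hz1⟩ : ∃ z ∈ S.E, (∀ g, g * z * g⁻¹ = z) ∧ (S.E ≠ ⊥ → z ≠ 1) := by
    by_cases hE : S.E = ⊥
    · exact ⟨1, one_mem _, fun g => by group, fun h => absurd hE h⟩
    · obtain ⟨z, hz, hne⟩ := (Subgroup.bot_or_exists_ne_one _).resolve_left (inf_center_ne_bot hG hE)
      exact ⟨z, hz.1, fun g => by rw [mem_center_iff.1 hz.2 g, mul_inv_cancel_right],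
        fun _ h => hne h⟩
  have hmove : ∀ g, g ∉ S.K → ∀ v ∈ S.E, v = 1 ∨ v = z ∨ g * v * g⁻¹ = z * v := by
    intro g hg v hv
    by_contra hcon
    simp only [not_or] at hcon
    obtain ⟨hv1, hvz, hgv⟩ := hcon
    have hEne : S.E ≠ ⊥ := fun h => hv1 (Subgroup.mem_bot.1 (h ▸ hv))
    obtain ⟨-, hall⟩ := S.four_elements h4 hzE hv (hz1 hEne) hv1 (Ne.symm hvz)
    have hgE : g * v * g⁻¹ ∈ S.E := (inferInstance : S.E.Normal).conj_mem v hv g
    have hfix : g * v * g⁻¹ = v := by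
      rcases hall _ hgE with h | h | h | h
      · exact absurd (conj_eq_one_iff.1 h) hv1
      · rw [← hzc g] at h
        exact absurd (mul_left_cancel (mul_right_cancel h)) hvz
      · exact h
      · exact absurd h hgv
    have hcomm : ∀ w, g * w * g⁻¹ = w → w * g = g * w := fun w hw => by
      conv_lhs => rw [← hw]
      rw [inv_mul_cancel_right]
    refine hg (S.mem_K.2 fun x hx => hcomm x ?_)
    rcases hall x hx with rfl | rfl | rfl | rfl
    · group
    · exact hzc g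
    · exact hfix
    · rw [← conj_mul, hzc g, hfix]
  refine ⟨z, hzE, hzc, hz1, hmove, ?_⟩
  by_cases hK : S.K = ⊤
  · rw [hK, Subgroup.index_top]; omega
  obtain ⟨t, -, ht⟩ := SetLike.exists_of_lt (lt_top_iff_ne_top.2 hK)
  rw [Subgroup.index, ← Nat.card_congr (Equiv.refl (G ⧸ S.K))]
  refine (Nat.card_le_card_of_surjective
    (fun b : Bool => if b then ((t : G) : G ⧸ S.K) else ((1 : G) : G ⧸ S.K)) ?_).trans
    (by rw [Nat.card_eq_fintype_card, Fintype.card_bool])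
  intro q
  obtain ⟨g, rfl⟩ := QuotientGroup.mk_surjective q
  by_cases hg : g ∈ S.K
  · exact ⟨false, by simpa using (QuotientGroup.eq.2 (by simpa using hg) :
      ((1 : G) : G ⧸ S.K) = (g : G ⧸ S.K))⟩
  refine ⟨true, ?_⟩
  simp only [↓reduceIte]
  refine QuotientGroup.eq.2 (S.mem_K.2 fun v hv => ?_)
  have key : t⁻¹ * g * v * (t⁻¹ * g)⁻¹ = v := by
    rcases hmove g hg v hv with rfl | rfl | hgv
    · group
    · exact hzc _
    · rcases hmove t ht v hv with rfl | rfl | htv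
      · group
      · exact hzc _
      · rw [show t⁻¹ * g * v * (t⁻¹ * g)⁻¹ = t⁻¹ * (g * v * g⁻¹) * t by group, hgv, ← htv]
        group
  conv_lhs => rw [← key]
  rw [inv_mul_cancel_right]

end Setup

end CfsgLib.PGroups.MacWilliams
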