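import Cfsg.Agent.Lib.PGroups.MacWilliams.Frame

/-!
# The case `A ≅ Z₄ × Z₄`

The image of `K = C(E)` in `E × E` through `x ↦ ([x, a₁], [x, a₂])`, and the behaviour of the
squares of its elements.
-/

set_option autoImplicit false
set_option linter.unusedSectionVars false
set_option linter.style.haveILetI false

namespace CfsgLib.PGroups.MacWilliams

open Subgroup
open scoped commutatorElement

variable {G : Type*} [Group G] [Finite G]

/-- All four elements of `E` are squares, the first generator lying over a central involution. -/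
structure Full (S : Setup G) where
  a1 : ↥S.A
  a2 : ↥S.A
  z : ↥S.E
  e : ↥S.E
  sq1 : (a1 : G) ^ 2 = z
  sq2 : (a2 : G) ^ 2 = e
  hz : ∀ g, g * (z : G) * g⁻¹ = z
  hz1 : z ≠ 1
  he1 : e ≠ 1
  hez : e ≠ z
  card4 : Nat.card S.E = 4
  all : ∀ x : ↥S.E, x = 1 ∨ x = z ∨ x = e ∨ x = z * e
  move : ∀ g, g ∉ S.K → g * (e : G) * g⁻¹ = z * e
  index2 : S.K.index ≤ 2

namespace Full

variable {S : Setup G} (F : Full S)

include F

/-- The action of `K` on `A`, modulo `C`. -/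
def θ : ↥S.K →* ↥S.E × ↥S.E := (S.br F.a1).prod (S.br F.a2)

/-- The image of `K` in `E × E`. -/
def U₀ : Subgroup (↥S.E × ↥S.E) := F.θ.range

theorem cases_a (a : ↥S.A) : (a : G) ^ 2 = 1 ∨
    ((a : G) ^ 2 = F.z ∧ ∀ x, S.br a x = S.br F.a1 x) ∨
    ((a : G) ^ 2 = F.e ∧ ∀ x, S.br a x = S.br F.a2 x) ∨
    ((a : G) ^ 2 = ((F.z * F.e : ↥S.E) : G) ∧ ∀ x, S.br a x = S.br F.a1 x * S.br F.a2 x) := by
  rcases F.all ⟨(a : G) ^ 2, S.sq_mem_E a.2⟩ with h | h | h | h <;>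
    have h' : (a : G) ^ 2 = _ := congrArg Subtype.val h
  · exact Or.inl h'
  · exact Or.inr (Or.inl ⟨h', fun x => S.br_eq_of_sq_eq _ _ (h'.trans F.sq1.symm) x⟩)
  · exact Or.inr (Or.inr (Or.inl ⟨h', fun x => S.br_eq_of_sq_eq _ _ (h'.trans F.sq2.symm) x⟩))
  · refine Or.inr (Or.inr (Or.inr ⟨h', fun x => ?_⟩))
    rw [← S.br_mul]
    refine S.br_eq_of_sq_eq _ _ (h'.trans ?_) x
    rw [Subgroup.coe_mul, Subgroup.coe_mul,
      (show Commute (F.a1 : G) (F.a2 : G) from S.comm _ F.a1.2 _ F.a2.2).mul_pow, F.sq1, F.sq2]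

theorem θ_eq_one {x : ↥S.K} : F.θ x = 1 ↔ (x : G) ∈ S.C := by
  refine ⟨fun h => S.mem_C_of_br fun a => ?_, fun h => ?_⟩
  · have h1 : S.br F.a1 x = 1 := congrArg Prod.fst h
    have h2 : S.br F.a2 x = 1 := congrArg Prod.snd h
    rcases F.cases_a a with ha | ⟨-, ha⟩ | ⟨-, ha⟩ | ⟨-, ha⟩
    · exact S.br_of_sq_eq_one a ha x
    · rw [ha, h1]
    · rw [ha, h2]
    · rw [ha, h1, h2, one_mul]
  · exact Prod.ext (S.br_of_mem_C h _) (S.br_of_mem_C h _)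

theorem inv_mul_mem_C {x y : ↥S.K} (h : F.θ x = F.θ y) : (x : G)⁻¹ * y ∈ S.C := by
  have : F.θ (x⁻¹ * y) = 1 := by rw [map_mul, map_inv, h, inv_mul_cancel]
  exact F.θ_eq_one.1 this

theorem θ_sq (x : ↥S.K) : F.θ (x ^ 2) = 1 := by
  rw [map_pow, pow_two]
  exact Prod.ext (S.E_sq _) (S.E_sq _)

theorem sq_mem_C (x : ↥S.K) : (x : G) ^ 2 ∈ S.C := by
  have := F.θ_eq_one.1 (F.θ_sq x)
  rwa [SubmonoidClass.coe_pow] at this

theorem card_solutions : Nat.card {c : ↥S.C // c ^ 2 = 1} = 4 := by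
  rw [← F.card4]
  refine le_antisymm (S.card_solutions_le le_rfl) ?_
  exact Nat.card_le_card_of_injective
    (fun v : ↥S.E => (⟨⟨(v : G), S.A_le_C v.2.1⟩, Subtype.ext v.2.2⟩ : {c : ↥S.C // c ^ 2 = 1}))
    fun a b hab => Subtype.ext (congrArg (fun c : {c : ↥S.C // c ^ 2 = 1} => ((c.1 : ↥S.C) : G)) hab)

/-- The Frattini subgroup of `C`, inside `G`. -/
def ΦC (_F : Full S) : Subgroup G := (frattini ↥S.C).map S.C.subtype

theorem E_le_ΦC (hG : IsPGroup 2 G) {v : G} (hv : v ∈ S.E) : v ∈ F.ΦC := by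
  haveI : Fact (Nat.Prime 2) := ⟨Nat.prime_two⟩
  have key : ∀ a : ↥S.A, (a : G) ^ 2 ∈ F.ΦC := fun a =>
    ⟨(⟨a, S.A_le_C a.2⟩ : ↥S.C) ^ 2, pow_mem_frattini (hG.to_subgroup _) _, rfl⟩
  rcases F.all ⟨v, hv⟩ with h | h | h | h <;> have h' : v = _ := congrArg Subtype.val h <;> rw [h']
  · exact one_mem _
  · exact F.sq1 ▸ key F.a1
  · exact F.sq2 ▸ key F.a2
  · rw [Subgroup.coe_mul]; exact mul_mem (F.sq1 ▸ key F.a1) (F.sq2 ▸ key F.a2)

/-- The element inverts no element of order four of `A`. -/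
def NoInv (_F : Full S) (y : G) : Prop := ∀ a ∈ S.A, y * a * y⁻¹ = a⁻¹ → a ^ 2 = 1

theorem noInv_of (x : ↥S.K) (h1 : S.br F.a1 x * F.z ≠ 1) (h2 : S.br F.a2 x * F.e ≠ 1)
    (h3 : S.br F.a1 x * F.z * (S.br F.a2 x * F.e) ≠ 1) : F.NoInv x := by
  intro a ha hinv
  have hb : ⁅(x : G), a⁆ * a ^ 2 = 1 := by
    rw [commutatorElement_def, hinv]
    group
  rcases F.cases_a ⟨a, ha⟩ with h | ⟨hs, hbr⟩ | ⟨hs, hbr⟩ | ⟨hs, hbr⟩
  · exact h
  · refine absurd (Subtype.ext ?_) h1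
    rw [Subgroup.coe_mul, ← hbr, S.br_coe, ← hs]; exact hb
  · refine absurd (Subtype.ext ?_) h2
    rw [Subgroup.coe_mul, ← hbr, S.br_coe, ← hs]; exact hb
  · refine absurd (Subtype.ext ?_) h3
    rw [mul_mul_mul_comm, Subgroup.coe_mul, ← hbr, S.br_coe, ← hs]; exact hb

/-- An involution in the coset with value `u`, inverting no element of order four of `A`. -/
def IsInv (u : ↥S.E × ↥S.E) : Prop :=
  ∃ y : ↥S.K, F.θ y = u ∧ (y : G) ^ 2 = 1 ∧ F.NoInv y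

theorem sq_hom_surj {v : G} (hv : v ∈ S.E) : ∃ a : ↥S.A, (a : G) ^ 2 = v := by
  rcases F.all ⟨v, hv⟩ with h | h | h | h <;> have h' : v = _ := congrArg Subtype.val h <;> rw [h']
  · exact ⟨1, by simp⟩
  · exact ⟨F.a1, F.sq1⟩
  · exact ⟨F.a2, F.sq2⟩
  · exact ⟨F.a1 * F.a2, by
      rw [Subgroup.coe_mul, Subgroup.coe_mul,
        (show Commute (F.a1 : G) (F.a2 : G) from S.comm _ F.a1.2 _ F.a2.2).mul_pow, F.sq1, F.sq2]⟩

/-- The squares of elements with no inverted element of order four can be killed. -/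
theorem isInv_of_sq_mem {y : ↥S.K} (hy2 : (y : G) ^ 2 ∈ S.E) (hno : F.NoInv y) :
    F.IsInv (F.θ y) := by
  classical
  let sq : ↥S.A →* ↥S.E := MonoidHom.mk' (fun a => ⟨(a : G) ^ 2, S.sq_mem_E a.2⟩) fun a b =>
    Subtype.ext ((show Commute (a : G) (b : G) from S.comm _ a.2 _ b.2).mul_pow 2)
  let ψ : ↥S.A →* ↥S.E := MonoidHom.mk' (fun a => S.br a y * sq a) fun a b => by
    rw [S.br_mul, map_mul, mul_mul_mul_comm]
  have hψ : ∀ a : ↥S.A, ψ a = S.br a y * sq a := fun a => rfl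
  have hker : ψ.ker = sq.ker := by
    ext a
    rw [MonoidHom.mem_ker, MonoidHom.mem_ker, hψ]
    refine ⟨fun h => Subtype.ext (hno a a.2 ?_), fun h => ?_⟩
    · have h' : (S.br a y : G) * (a : G) ^ 2 = 1 := congrArg Subtype.val h
      rw [S.conj_eq_br]
      refine (inv_eq_of_mul_eq_one_left ?_).symm
      rw [mul_assoc, ← pow_two]
      exact h'
    · rw [h, mul_one]
      exact S.br_of_sq_eq_one a (congrArg Subtype.val h) y
  have hsq : sq.range = ⊤ := MonoidHom.range_eq_top.2 fun v => by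
    obtain ⟨a, ha⟩ := F.sq_hom_surj v.2
    exact ⟨a, Subtype.ext ha⟩
  have hrange : ψ.range = ⊤ := by
    rw [← Subgroup.card_eq_iff_eq_top, ← Subgroup.index_ker, hker, Subgroup.index_ker, hsq,
      Subgroup.card_top]
  obtain ⟨a, ha⟩ := MonoidHom.range_eq_top.1 hrange ⟨(y : G) ^ 2, hy2⟩
  have ha' : (S.br a y : G) * (a : G) ^ 2 = (y : G) ^ 2 := congrArg Subtype.val ha
  have hya : (y : G) * a * y = (y : G) ^ 2 * ((S.br a y : G) * a) := by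
    rw [show (y : G) * a * y = (y : G) * a * (y : G)⁻¹ * (y : G) ^ 2 by rw [pow_two]; group,
      S.conj_eq_br, S.comm _ (mul_mem (S.br a y).2.1 a.2) _ hy2.1]
  have haK : (a : G) ∈ S.K := S.C_le_K (S.A_le_C a.2)
  refine ⟨y * ⟨a, haK⟩, ?_, ?_, fun b hb hinv => hno b hb ?_⟩
  · rw [map_mul, F.θ_eq_one.2 (S.A_le_C a.2 : ((⟨a, haK⟩ : ↥S.K) : G) ∈ S.C), mul_one]
  · rw [Subgroup.coe_mul, pow_two, ← mul_assoc, hya, mul_assoc, mul_assoc, ← pow_two (a : G), ha',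
      ← pow_two ((y : G) ^ 2), hy2.2]
  · rw [← hinv, Subgroup.coe_mul, mul_inv_rev,
      show (y : G) * a * b * ((a : G)⁻¹ * (y : G)⁻¹) =
        (y : G) * ((a : G) * b * (a : G)⁻¹) * (y : G)⁻¹ by group,
      S.comm a a.2 b hb, mul_inv_cancel_right]

/-- If `x ^ 2` is a square in `C`, some element with the same value has square in `E`. -/
theorem exists_sq_mem_E (hG : IsPGroup 2 G) {x : ↥S.K} (hx : (x : G) ^ 2 ∈ F.ΦC) :
    ∃ y : ↥S.K, F.θ y = F.θ x ∧ (y : G) ^ 2 ∈ S.E := by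
  obtain ⟨w, hw, hwx⟩ := hx
  obtain ⟨r, rfl⟩ := exists_sq_of_mem_frattini (hG.to_subgroup _) (S.hyp4_of_le le_rfl)
    F.card_solutions hw
  have hr2 : (r : G) ^ 2 = (x : G) ^ 2 := by simpa using hwx
  have hr' : (x : G) * r * (x : G)⁻¹ ∈ S.C :=
    (inferInstance : S.C.Normal).conj_mem _ r.2 _
  have h1 := sq_inj (hG.to_subgroup S.C) (S.hyp4_of_le le_rfl) (a := r)
    (b := ⟨(x : G) * r * (x : G)⁻¹, hr'⟩) (Subtype.ext (by
      rw [SubmonoidClass.coe_pow, SubmonoidClass.coe_pow]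
      show (r : G) ^ 2 = ((x : G) * r * (x : G)⁻¹) ^ 2
      rw [conj_pow, hr2]; group))
  have h2 : ((r : G)⁻¹ * ((x : G) * r * (x : G)⁻¹)) ^ 2 = 1 := by simpa using congrArg Subtype.val h1
  set ε := (r : G)⁻¹ * ((x : G) * r * (x : G)⁻¹) with hε
  have hεE : ε ∈ S.E := S.mem_E_of_mem_C (mul_mem (inv_mem r.2) hr') h2
  refine ⟨x * ⟨(r : G)⁻¹, S.C_le_K (inv_mem r.2)⟩, ?_, ?_⟩
  · rw [map_mul, F.θ_eq_one.2 (show ((⟨(r : G)⁻¹, S.C_le_K (inv_mem r.2)⟩ : ↥S.K) : G) ∈ S.C from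
      inv_mem r.2), mul_one]
  · have : ((x : G) * (r : G)⁻¹) ^ 2 = ε⁻¹ := by
      rw [hε, show ((x : G) * (r : G)⁻¹) ^ 2 =
        (x : G) * (r : G)⁻¹ * (x : G)⁻¹ * (x : G) ^ 2 * (r : G)⁻¹ by rw [pow_two, pow_two]; group,
        ← hr2]
      group
    rw [Subgroup.coe_mul]
    exact this ▸ inv_mem hεE

/-- The elements with the value of an involution conjugate it into `yE`. -/
theorem inv_mul_conj_mem (hG : IsPGroup 2 G) {y : ↥S.K} (hy2 : (y : G) ^ 2 = 1) (hno : F.NoInv y)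
    {g : G} (hC : (y : G)⁻¹ * (g * y * g⁻¹) ∈ S.C) : (y : G)⁻¹ * (g * y * g⁻¹) ∈ S.E := by
  have hyi : (y : G)⁻¹ = y := by rw [inv_eq_iff_mul_eq_one, ← pow_two, hy2]
  refine S.mem_E_of_inverted hG hC hno ?_
  have hgy : g * (y : G) * g⁻¹ * (g * (y : G) * g⁻¹) = 1 := by
    rw [← pow_two, conj_pow, hy2]; group
  have h2 : (g * (y : G) * g⁻¹)⁻¹ = g * (y : G) * g⁻¹ := inv_eq_of_mul_eq_one_left hgy
  calc (y : G) * ((y : G)⁻¹ * (g * (y : G) * g⁻¹)) * (y : G)⁻¹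
      = g * (y : G) * g⁻¹ * (y : G)⁻¹ := by group
    _ = (g * (y : G) * g⁻¹)⁻¹ * (y : G) := by rw [h2, hyi]
    _ = ((y : G)⁻¹ * (g * (y : G) * g⁻¹))⁻¹ := by group

/-- An involution as above commutes with all squares from `K`. -/
theorem commute_sq (hG : IsPGroup 2 G) {y : ↥S.K} (hy2 : (y : G) ^ 2 = 1) (hno : F.NoInv y)
    (k : ↥S.K) : (k : G) ^ 2 * y * ((k : G) ^ 2)⁻¹ = y := by
  have hθ : F.θ y = F.θ (k * y * k⁻¹) := by
    rw [map_mul, map_mul, map_inv, mul_comm (F.θ k), mul_inv_cancel_right]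
  set c := (y : G)⁻¹ * ((k : G) * y * (k : G)⁻¹) with hc
  have hcE : c ∈ S.E := F.inv_mul_conj_mem hG hy2 hno (by
    simpa using F.inv_mul_mem_C hθ)
  have h1 : (k : G) * y * (k : G)⁻¹ = y * c := by rw [hc]; group
  calc (k : G) ^ 2 * y * ((k : G) ^ 2)⁻¹
      = (k : G) * ((k : G) * y * (k : G)⁻¹) * (k : G)⁻¹ := by rw [pow_two]; group
    _ = ((k : G) * y * (k : G)⁻¹) * ((k : G) * c * (k : G)⁻¹) := by
          conv_lhs => rw [h1]
          group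
    _ = y * (c * c) := by rw [S.conj_E k.2 hcE, h1, mul_assoc]
    _ = y := by rw [← pow_two c, hcE.2, mul_one]

/-- An involution with invariant value gives a normal elementary abelian subgroup of order eight. -/
theorem not_invariant (hG : IsPGroup 2 G)
    (h8 : ∀ A : Subgroup G, A.Normal → IsMulCommutative A → (∀ a ∈ A, a ^ 2 = 1) → Nat.card A ≤ 4)
    {y : ↥S.K} (hy2 : (y : G) ^ 2 = 1) (hno : F.NoInv y) (hne : F.θ y ≠ 1)
    (hinv : ∀ g : G,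
      F.θ y = F.θ ⟨g * y * g⁻¹, (inferInstance : S.K.Normal).conj_mem _ y.2 g⟩) : False := by
  have hc : ∀ g : G, (y : G)⁻¹ * (g * y * g⁻¹) ∈ S.E := fun g =>
    F.inv_mul_conj_mem hG hy2 hno (F.inv_mul_mem_C (hinv g))
  have hcomm : ∀ v ∈ S.E, Commute v (y : G) := fun v hv => S.mem_K.1 y.2 v hv
  set B := S.E ⊔ zpowers (y : G)
  have hmem : ∀ w ∈ B, ∃ v ∈ S.E, ∃ k : ℤ, w = v * (y : G) ^ k := fun w hw => by
    obtain ⟨v, hv, _, hy', rfl⟩ := Subgroup.mem_sup_of_normal_left.1 hw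
    obtain ⟨k, rfl⟩ := mem_zpowers_iff.1 hy'
    exact ⟨v, hv, k, rfl⟩
  have hBn : B.Normal := by
    refine ⟨fun w hw g => ?_⟩
    obtain ⟨v, hv, k, rfl⟩ := hmem w hw
    rw [show g * (v * (y : G) ^ k) * g⁻¹ = g * v * g⁻¹ * (g * (y : G) ^ k * g⁻¹) by group,
      ← conj_zpow]
    refine mul_mem (mem_sup_left ((inferInstance : S.E.Normal).conj_mem v hv g)) (zpow_mem ?_ k)
    rw [show g * (y : G) * g⁻¹ = y * ((y : G)⁻¹ * (g * y * g⁻¹)) by group]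
    exact mul_mem (mem_sup_right (mem_zpowers _)) (mem_sup_left (hc g))
  have hBc : IsMulCommutative ↥B := ⟨⟨fun ⟨v, hv⟩ ⟨w, hw⟩ => Subtype.ext (by
    obtain ⟨a, ha, k, rfl⟩ := hmem v hv
    obtain ⟨b, hb, l, rfl⟩ := hmem w hw
    exact Commute.mul_left
      (Commute.mul_right (S.comm a ha.1 b hb.1 : Commute a b) ((hcomm a ha).zpow_right l))
      (Commute.mul_right ((hcomm b hb).zpow_right k).symm
        ((Commute.refl (y : G)).zpow_zpow k l)))⟩⟩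
  have hB2 : ∀ w ∈ B, w ^ 2 = 1 := fun w hw => by
    obtain ⟨v, hv, k, rfl⟩ := hmem w hw
    rw [((hcomm v hv).zpow_right k).mul_pow, hv.2, one_mul, ← zpow_natCast, ← zpow_mul, mul_comm,
      zpow_mul, zpow_natCast, hy2, one_zpow]
  have hEB : S.E < B := lt_of_le_of_ne le_sup_left fun he => hne (F.θ_eq_one.2
    (S.A_le_C (show (y : G) ∈ S.E from he ▸ mem_sup_right (mem_zpowers _)).1))
  have := Set.ncard_lt_ncard (SetLike.coe_ssubset_coe.2 hEB) (Set.toFinite _)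
  have h4 := h8 B hBn hBc hB2
  have e1 : Nat.card S.E = (S.E : Set G).ncard := rfl
  have e2 : Nat.card B = (B : Set G).ncard := rfl
  have e3 := F.card4
  omega

theorem θ_conj_mem {g : G} (hg : g ∈ S.K) (k : ↥S.K) :
    F.θ ⟨g * k * g⁻¹, (inferInstance : S.K.Normal).conj_mem _ k.2 g⟩ = F.θ k := by
  rw [show (⟨g * k * g⁻¹, (inferInstance : S.K.Normal).conj_mem _ k.2 g⟩ : ↥S.K) =
    ⟨g, hg⟩ * k * ⟨g, hg⟩⁻¹ from rfl, map_mul, map_mul, map_inv, mul_comm (F.θ _) (F.θ k),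
    mul_inv_cancel_right]

theorem conj_z_inv (g : G) : g⁻¹ * (F.z : G) * g = F.z := by
  have := F.hz g⁻¹
  rwa [inv_inv] at this

/-- The conjugation by an element outside `K`. -/
theorem θ_conj {g : G} (hg : g ∉ S.K) (k : ↥S.K) :
    (((F.θ ⟨g * k * g⁻¹, (inferInstance : S.K.Normal).conj_mem _ k.2 g⟩).1 : ↥S.E) : G) =
        g * ((F.θ k).1 : G) * g⁻¹ ∧
    (((F.θ ⟨g * k * g⁻¹, (inferInstance : S.K.Normal).conj_mem _ k.2 g⟩).2 : ↥S.E) : G) =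
        g * (((F.θ k).1 * (F.θ k).2 : ↥S.E) : G) * g⁻¹ := by
  have hA : ∀ a : ↥S.A, g⁻¹ * (a : G) * g ∈ S.A := fun a => by
    simpa using S.normal.conj_mem _ a.2 g⁻¹
  constructor
  · show (S.br F.a1 _ : G) = g * (S.br F.a1 k : G) * g⁻¹
    rw [S.br_conj, S.br_eq_of_sq_eq ⟨g⁻¹ * F.a1 * g, hA _⟩ F.a1]
    show (g⁻¹ * (F.a1 : G) * g) ^ 2 = _
    rw [show g⁻¹ * (F.a1 : G) * g = g⁻¹ * (F.a1 : G) * (g⁻¹)⁻¹ by rw [inv_inv], conj_pow, inv_inv,
      F.sq1, F.conj_z_inv]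
  · show (S.br F.a2 _ : G) = g * ((S.br F.a1 k * S.br F.a2 k : ↥S.E) : G) * g⁻¹
    rw [S.br_conj, ← S.br_mul, S.br_eq_of_sq_eq ⟨g⁻¹ * F.a2 * g, hA _⟩ (F.a1 * F.a2)]
    show (g⁻¹ * (F.a2 : G) * g) ^ 2 = _
    have h1 : g⁻¹ * (F.e : G) * (g⁻¹)⁻¹ = F.z * F.e :=
      F.move g⁻¹ fun h => hg (inv_mem_iff.1 h)
    rw [show g⁻¹ * (F.a2 : G) * g = g⁻¹ * (F.a2 : G) * (g⁻¹)⁻¹ by rw [inv_inv], conj_pow,
      F.sq2, h1, Subgroup.coe_mul,
      (show Commute (F.a1 : G) (F.a2 : G) from S.comm _ F.a1.2 _ F.a2.2).mul_pow, F.sq1, F.sq2]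

/-- The values fixed by conjugation from outside `K`. -/
theorem fixed_cases {g : G} (hg : g ∉ S.K) {k : ↥S.K}
    (h : F.θ ⟨g * k * g⁻¹, (inferInstance : S.K.Normal).conj_mem _ k.2 g⟩ = F.θ k) :
    ((F.θ k).1 = 1 ∨ (F.θ k).1 = F.z) ∧
      ((F.θ k).1 = 1 → (F.θ k).2 = 1 ∨ (F.θ k).2 = F.z) := by
  obtain ⟨h1, h2⟩ := F.θ_conj hg k
  rw [h] at h1 h2
  have key : ∀ v : ↥S.E, g * (v : G) * g⁻¹ = v → v = 1 ∨ v = F.z := by
    intro v hv
    rcases F.all v with rfl | rfl | rfl | rfl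
    · exact Or.inl rfl
    · exact Or.inr rfl
    · rw [F.move g hg] at hv
      exact absurd (Subtype.ext (mul_eq_right.1 hv) : F.z = 1) F.hz1
    · rw [Subgroup.coe_mul, ← conj_mul, F.move g hg, F.hz g, ← mul_assoc] at hv
      have : (F.z : G) * F.z = F.z := mul_right_cancel hv
      exact absurd (Subtype.ext (mul_eq_left.1 this) : F.z = 1) F.hz1
  refine ⟨key _ h1.symm, fun h0 => key _ ?_⟩
  rw [h0, one_mul] at h2
  exact h2.symm

/-- An element with value `(1, z)` has square outside `Φ(C)`. -/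
theorem sq_notMem_of_one_z (hG : IsPGroup 2 G)
    (h8 : ∀ A : Subgroup G, A.Normal → IsMulCommutative A → (∀ a ∈ A, a ^ 2 = 1) → Nat.card A ≤ 4)
    {x : ↥S.K} (hx : F.θ x = (1, F.z)) : (x : G) ^ 2 ∉ F.ΦC := by
  intro hmem
  obtain ⟨y, hyx, hy2⟩ := F.exists_sq_mem_E hG hmem
  have hb1 : S.br F.a1 y = 1 := congrArg Prod.fst (hyx.trans hx)
  have hb2 : S.br F.a2 y = F.z := congrArg Prod.snd (hyx.trans hx)
  have hze : F.z * F.e ≠ 1 := fun h => F.hez (by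
    rw [mul_eq_one_iff_eq_inv] at h
    rw [h, ← mul_eq_one_iff_eq_inv.1 (S.E_sq F.e)])
  obtain ⟨w, hw, hw2, hwno⟩ := F.isInv_of_sq_mem hy2 (F.noInv_of y
    (by rw [hb1, one_mul]; exact F.hz1) (by rw [hb2]; exact hze)
    (by rw [hb1, hb2, one_mul, ← mul_assoc, S.E_sq, one_mul]; exact F.he1))
  rw [hyx, hx] at hw
  refine F.not_invariant hG h8 hw2 hwno
    (by rw [hw]; exact fun h => F.hz1 (congrArg Prod.snd h)) fun g => ?_
  by_cases hg : g ∈ S.K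
  · exact (F.θ_conj_mem hg w).symm
  obtain ⟨h1, h2⟩ := F.θ_conj hg w
  rw [hw]
  refine Prod.ext (Subtype.ext ?_) (Subtype.ext ?_)
  · rw [h1, hw, OneMemClass.coe_one]; group
  · rw [h2, hw, one_mul]; exact (F.hz g).symm

/-- An involution moving `z` forbids the value `(1, z)`. -/
theorem one_z_notMem (hG : IsPGroup 2 G)
    (h8 : ∀ A : Subgroup G, A.Normal → IsMulCommutative A → (∀ a ∈ A, a ^ 2 = 1) → Nat.card A ≤ 4)
    {u : ↥S.E × ↥S.E} (hu : F.IsInv u) (hu1 : u.1 ≠ 1) : (1, F.z) ∉ F.U₀ := by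
  rintro ⟨x, hx⟩
  obtain ⟨y, rfl, hy2, hno⟩ := hu
  have hxΦ := F.sq_notMem_of_one_z hG h8 hx
  have h4 : ((x : G) ^ 2) ^ 2 ≠ 1 := fun h => hxΦ (F.E_le_ΦC hG (S.mem_E_of_mem_C (F.sq_mem_C x) h))
  obtain ⟨m, hm4, hm2⟩ := exists_pow_order_four hG h4
  set v : ↥S.A := ⟨((x : G) ^ 2) ^ m, S.mem_A_of_mem_C (pow_mem (F.sq_mem_C x) m) hm4⟩ with hv
  have hxv : S.br v x = 1 := Subtype.ext (by
    rw [S.br_coe, OneMemClass.coe_one, commutatorElement_eq_one_iff_commute]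
    exact ((Commute.refl (x : G)).pow_right 2).pow_right m)
  have hyv : S.br v y = 1 := Subtype.ext (by
    rw [S.br_coe, OneMemClass.coe_one, commutatorElement_eq_one_iff_commute]
    have h5 : Commute ((x : G) ^ 2) (y : G) := by
      have := F.commute_sq hG hy2 hno x
      rw [mul_inv_eq_iff_eq_mul] at this
      exact this
    exact (h5.pow_left m).symm)
  rcases F.cases_a v with h | ⟨-, hbr⟩ | ⟨-, hbr⟩ | ⟨-, hbr⟩
  · exact hm2 h
  · rw [hbr] at hyv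
    exact hu1 hyv
  · rw [hbr] at hxv
    exact F.hz1 ((congrArg Prod.snd hx).symm.trans hxv)
  · rw [hbr, show S.br F.a1 x = 1 from congrArg Prod.fst hx, one_mul] at hxv
    exact F.hz1 ((congrArg Prod.snd hx).symm.trans hxv)

end Full

end CfsgLib.PGroups.MacWilliams
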