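import Cfsg.Agent.Lib.PGroups.Basic

/-!
# Two-groups whose elements of order dividing four are central

In such a group two elements with the same square differ by an element of order at most two. Hence
the squares make up at least the proportion `1 / #{x | x ^ 2 = 1}` of the group.
-/

set_option autoImplicit false
set_option linter.unusedSectionVars false
set_option linter.style.haveILetI false

namespace CfsgLib.PGroups.MacWilliams

open Subgroup
open scoped commutatorElement

universe u

/-- The elements of order dividing four are central. -/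
def Hyp4 (G : Type u) [Group G] : Prop := ∀ x : G, x ^ 4 = 1 → x ∈ center G

theorem Hyp4.subgroup {G : Type u} [Group G] (h : Hyp4 G) (M : Subgroup G) : Hyp4 M :=
  fun x hx => mem_center_iff.2 fun y =>
    Subtype.ext (mem_center_iff.1 (h (x : G) (by simpa using congrArg Subtype.val hx)) y)

theorem sq_inj_aux : ∀ (n : ℕ) (G : Type u) [Group G] [Finite G],
    Nat.card G = n → IsPGroup 2 G → Hyp4 G → ∀ a b : G, a ^ 2 = b ^ 2 → (a⁻¹ * b) ^ 2 = 1 := by
  haveI : Fact (Nat.Prime 2) := ⟨Nat.prime_two⟩
  intro n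
  induction n using Nat.strong_induction_on with
  | _ n ih =>
    intro G _ _ hn hG h a b hab
    set M := zpowers a ⊔ commutator G with hM
    by_cases htop : M = ⊤
    · have hz : zpowers a = ⊤ := frattini_nongenerating (eq_top_iff.2 (htop.ge.trans
        (sup_le_sup_left (commutator_le_frattini hG) _)))
      obtain ⟨k, rfl⟩ := mem_zpowers_iff.1 (hz ▸ mem_top b)
      rw [(((Commute.refl a).zpow_right k).inv_left).mul_pow, inv_pow, ← hab, inv_mul_cancel]
    set a' := b * a * b⁻¹ with ha'
    have haM : a ∈ M := mem_sup_left (mem_zpowers a)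
    have ha'M : a' ∈ M := by
      rw [ha', show b * a * b⁻¹ = ⁅b, a⁆ * a by rw [commutatorElement_def]; group]
      exact mul_mem (mem_sup_right (commutator_mem_commutator (mem_top b) (mem_top a))) haM
    have hsq : a ^ 2 = a' ^ 2 := by
      rw [ha', conj_pow, hab]; group
    have hlt : Nat.card M < n := hn ▸ lt_of_le_of_ne M.card_le_card_group
      fun e => htop (M.card_eq_iff_eq_top.1 e)
    have h1 := congrArg Subtype.val (ih _ hlt M rfl (hG.to_subgroup M) (h.subgroup M)
      ⟨a, haM⟩ ⟨a', ha'M⟩ (Subtype.ext (by simpa using hsq)))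
    have hu2 : (a⁻¹ * a') ^ 2 = 1 := by simpa using h1
    set u := a⁻¹ * a' with hu
    have huc : ∀ g : G, g * u = u * g := fun g => mem_center_iff.1
      (h u (by rw [show (4 : ℕ) = 2 * 2 by rfl, pow_mul, hu2, one_pow])) g
    have hbau : b * a * b⁻¹ = a * u := by rw [hu, ha']; group
    have hw : (a⁻¹ * b) ^ 2 = u⁻¹ := by
      calc (a⁻¹ * b) ^ 2 = a⁻¹ * (b * a * b⁻¹)⁻¹ * b ^ 2 := by
            rw [pow_two, pow_two]; group
        _ = a⁻¹ * (u⁻¹ * a⁻¹) * a ^ 2 := by rw [hbau, hab, mul_inv_rev]
        _ = a⁻¹ * (a⁻¹ * u⁻¹) * a ^ 2 := by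
          rw [show u⁻¹ * a⁻¹ = a⁻¹ * u⁻¹ by
            rw [← mul_inv_rev, ← mul_inv_rev, huc a]]
        _ = u⁻¹ := by
          have hc : u⁻¹ * a ^ 2 = a ^ 2 * u⁻¹ :=
            ((Commute.inv_left (huc (a ^ 2)).symm) : Commute u⁻¹ (a ^ 2))
          rw [mul_assoc, mul_assoc, hc]; group
    have hwc : (a⁻¹ * b) ∈ center G := h _ (by
      rw [show (4 : ℕ) = 2 * 2 by rfl, pow_mul, hw, inv_pow, hu2, inv_one])
    have hba : b * a = a * b := by
      have e1 := mem_center_iff.1 hwc a
      calc b * a = a * (a⁻¹ * b * a) := by group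
        _ = a * (a * (a⁻¹ * b)) := by rw [← e1]
        _ = a * b := by group
    have : u = 1 := by rw [hu, ha', hba]; group
    rw [hw, this, inv_one]

variable {G : Type u} [Group G] [Finite G]

theorem sq_inj (hG : IsPGroup 2 G) (h : Hyp4 G) {a b : G} (hab : a ^ 2 = b ^ 2) :
    (a⁻¹ * b) ^ 2 = 1 :=
  sq_inj_aux _ G rfl hG h a b hab

theorem card_le_sq (hG : IsPGroup 2 G) (h : Hyp4 G) :
    Nat.card G ≤ Nat.card (Set.range fun x : G => x ^ 2) * Nat.card {x : G // x ^ 2 = 1} := by
  rw [← Nat.card_prod]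
  refine Nat.card_le_card_of_injective
    (fun g => (Set.rangeFactorization (fun x : G => x ^ 2) g,
      ⟨(Classical.choose (Set.rangeFactorization (fun x : G => x ^ 2) g).2)⁻¹ * g,
        sq_inj hG h (Classical.choose_spec (Set.rangeFactorization (fun x : G => x ^ 2) g).2)⟩))
    fun a b hab => ?_
  obtain ⟨e1, e2⟩ := Prod.ext_iff.1 hab
  have e2' := congrArg Subtype.val e2
  dsimp only at e1 e2'
  rw [e1] at e2'
  exact mul_left_cancel e2'

/-- The Frattini subgroup has index at most the number of solutions of `x ^ 2 = 1`. -/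
theorem index_frattini_le (hG : IsPGroup 2 G) (h : Hyp4 G) :
    (frattini G).index ≤ Nat.card {x : G // x ^ 2 = 1} := by
  haveI : Fact (Nat.Prime 2) := ⟨Nat.prime_two⟩
  refine Nat.le_of_mul_le_mul_left ?_ (Nat.card_pos (α := frattini G))
  rw [Subgroup.card_mul_index]
  refine (card_le_sq hG h).trans (Nat.mul_le_mul_right _ ?_)
  exact Nat.card_le_card_of_injective
    (fun x : Set.range (fun x : G => x ^ 2) => (⟨x.1, by
      obtain ⟨y, hy⟩ := x.2
      exact hy ▸ pow_mem_frattini hG y⟩ : frattini G))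
    fun a b hab => Subtype.ext (congrArg (fun z : frattini G => (z : G)) hab)

/-- With four solutions of `x ^ 2 = 1`, the Frattini subgroup consists of squares. -/
theorem exists_sq_of_mem_frattini (hG : IsPGroup 2 G) (h : Hyp4 G)
    (h4 : Nat.card {x : G // x ^ 2 = 1} = 4) {x : G} (hx : x ∈ frattini G) :
    ∃ r : G, r ^ 2 = x := by
  haveI : Fact (Nat.Prime 2) := ⟨Nat.prime_two⟩
  classical
  have hidx : 4 ≤ (frattini G).index := by
    by_contra hlt
    rw [not_le] at hlt
    obtain ⟨k, hk⟩ := index_eq_pow hG (frattini G)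
    have hk1 : k ≤ 1 := by
      by_contra hk2
      rw [not_le] at hk2
      have : 2 ^ 2 ≤ 2 ^ k := Nat.pow_le_pow_right two_pos hk2
      omega
    have hcyc : IsCyclic G := by
      by_cases hF : frattini G = ⊤
      · have : (⊥ : Subgroup G) = ⊤ := frattini_nongenerating (K := ⊥) (by rw [hF, sup_top_eq])
        exact ⟨⟨1, fun g => by
          rw [show g = 1 from Subgroup.mem_bot.1 (this ▸ mem_top g)]
          exact one_mem (zpowers (1 : G))⟩⟩
      obtain ⟨g, -, hg⟩ := SetLike.exists_of_lt (lt_top_iff_ne_top.2 hF)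
      have hco : IsCoatom (frattini G) := isCoatom_of_index_eq_prime (p := 2) (by
        rcases Nat.le_one_iff_eq_zero_or_eq_one.1 hk1 with rfl | rfl
        · exact absurd (Subgroup.index_eq_one.1 (by simpa using hk)) hF
        · simpa using hk)
      have hs : zpowers g ⊔ frattini G = ⊤ := hco.2 _ (lt_of_le_of_ne le_sup_right
        fun e => hg (e ▸ mem_sup_left (mem_zpowers g)))
      have hgen : zpowers g = ⊤ := frattini_nongenerating hs
      exact ⟨⟨g, fun y => show y ∈ zpowers g from hgen ▸ mem_top y⟩⟩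
    haveI := Fintype.ofFinite G
    have h2 := IsCyclic.card_pow_eq_one_le (α := G) two_pos
    rw [← Fintype.card_subtype, ← Nat.card_eq_fintype_card, h4] at h2
    omega
  have hsub : Set.range (fun x : G => x ^ 2) ⊆ (frattini G : Set G) := by
    rintro _ ⟨y, rfl⟩
    exact pow_mem_frattini hG y
  have hle : Nat.card (frattini G) ≤ Nat.card (Set.range fun x : G => x ^ 2) := by
    have h1 := card_le_sq hG h
    rw [h4, ← Subgroup.card_mul_index (frattini G)] at h1
    have h2 := Nat.mul_le_mul_left (Nat.card (frattini G)) hidx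
    exact Nat.le_of_mul_le_mul_right (h2.trans h1) (by norm_num)
  have heq : Set.range (fun x : G => x ^ 2) = (frattini G : Set G) :=
    Set.eq_of_subset_of_ncard_le hsub hle (Set.toFinite _)
  exact (heq.symm ▸ (show x ∈ (frattini G : Set G) from hx) :
    x ∈ Set.range fun x : G => x ^ 2)

/-- In a finite two-group an element of order above two has a power of order four. -/
theorem exists_pow_order_four (hG : IsPGroup 2 G) {c : G} (hc : c ^ 2 ≠ 1) :
    ∃ m : ℕ, (c ^ m) ^ 4 = 1 ∧ (c ^ m) ^ 2 ≠ 1 := by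
  obtain ⟨k, hk⟩ := hG c
  induction k generalizing c with
  | zero => exact absurd (by rw [pow_two]; simp only [pow_zero, pow_one] at hk; rw [hk, one_mul]) hc
  | succ k ih =>
    by_cases h4 : c ^ 4 = 1
    · exact ⟨1, by rwa [pow_one], by rwa [pow_one]⟩
    · obtain ⟨m, hm1, hm2⟩ := ih (c := c ^ 2) (by rwa [← pow_mul]) (by
        rw [← pow_mul]; rwa [pow_succ'] at hk)
      exact ⟨2 * m, by rwa [pow_mul], by rwa [pow_mul]⟩

end CfsgLib.PGroups.MacWilliams
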