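import Cfsg.Agent.Lib.PGroups.MacWilliams.Full
import Cfsg.Agent.Lib.PGroups.MacWilliams.Counting

/-!
# The image of `K` in `E × E`
-/

set_option autoImplicit false
set_option linter.unusedSectionVars false
set_option linter.style.haveILetI false

namespace CfsgLib.PGroups.MacWilliams

open Subgroup
open scoped commutatorElement

variable {G : Type*} [Group G] [Finite G]

theorem card_le_two_of_subset {V : Type*} [Group V] [Finite V] (X : Subgroup V) (a b : V)
    (h : ∀ u ∈ X, u = a ∨ u = b) : Nat.card X ≤ 2 := by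
  have hsub : (X : Set V) ⊆ {a, b} := fun u hu => by simpa using h u hu
  refine le_trans (le_of_eq ?_) ((Set.ncard_le_ncard hsub (Set.toFinite _)).trans
    ((Set.ncard_insert_le a {b}).trans (by rw [Set.ncard_singleton])))
  rfl

namespace Full

variable {S : Setup G} (F : Full S)

include F

/-- A subgroup of values fixed from outside `K` has order at most four, two without `(1, z)`. -/
theorem card_fixed_le (X : Subgroup (↥S.E × ↥S.E))
    (hX : ∀ u ∈ X, (u.1 = 1 ∨ u.1 = F.z) ∧ (u.1 = 1 → u.2 = 1 ∨ u.2 = F.z)) :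
    Nat.card X ≤ 4 ∧ ((1, F.z) ∉ X → Nat.card X ≤ 2) := by
  set q := (MonoidHom.fst ↥S.E ↥S.E).comp X.subtype
  have hr : Nat.card q.range ≤ 2 := card_le_two_of_subset _ 1 F.z (by
    rintro _ ⟨u, rfl⟩
    exact (hX _ u.2).1)
  have heq : Nat.card X = Nat.card q.ker * Nat.card q.range := by
    rw [← Subgroup.index_ker, Subgroup.card_mul_index]
  have hk : ∀ u ∈ q.ker, ((u : ↥S.E × ↥S.E) = (1, 1) ∨ (u : ↥S.E × ↥S.E) = (1, F.z)) := by
    intro u hu
    have h1 : (u : ↥S.E × ↥S.E).1 = 1 := hu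
    rcases (hX _ u.2).2 h1 with h | h
    · exact Or.inl (Prod.ext h1 h)
    · exact Or.inr (Prod.ext h1 h)
  refine ⟨?_, fun hn => ?_⟩
  · have h2 : Nat.card q.ker ≤ 2 := by
      rcases Classical.em (((1, F.z) : ↥S.E × ↥S.E) ∈ X) with hz | hz
      · refine card_le_two_of_subset _ 1 ⟨_, hz⟩ fun u hu => ?_
        rcases hk u hu with h | h
        · exact Or.inl (Subtype.ext h)
        · exact Or.inr (Subtype.ext h)
      · refine card_le_two_of_subset _ 1 1 fun u hu => ?_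
        rcases hk u hu with h | h
        · exact Or.inl (Subtype.ext h)
        · exact absurd (h ▸ u.2) hz
    rw [heq]
    exact (Nat.mul_le_mul h2 hr).trans (by norm_num)
  · have h1 : q.ker = ⊥ := by
      rw [Subgroup.eq_bot_iff_forall]
      intro u hu
      rcases hk u hu with h | h
      · exact Subtype.ext h
      · exact absurd (h ▸ u.2) hn
    rw [heq, h1, Subgroup.card_bot, one_mul]
    exact hr

theorem ze_ne_one : F.z * F.e ≠ 1 := fun h => F.hez (by
  rw [mul_eq_one_iff_eq_inv] at h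
  rw [h, ← mul_eq_one_iff_eq_inv.1 (S.E_sq F.e)])

/-- The elements inverting nothing of order four and centralizing nothing of order four. -/
theorem isInv_of_inj (hG : IsPGroup 2 G) {x : ↥S.K} (hno : F.NoInv x) (h1 : (F.θ x).1 ≠ 1)
    (h2 : (F.θ x).2 ≠ 1) (h3 : (F.θ x).1 * (F.θ x).2 ≠ 1) : F.IsInv (F.θ x) := by
  refine F.isInv_of_sq_mem (S.mem_E_of_mem_C (F.sq_mem_C x) (by_contra fun h4 => ?_)) hno
  obtain ⟨m, hm4, hm2⟩ := exists_pow_order_four hG h4
  set v : ↥S.A := ⟨((x : G) ^ 2) ^ m, S.mem_A_of_mem_C (pow_mem (F.sq_mem_C x) m) hm4⟩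
  have hxv : S.br v x = 1 := Subtype.ext (by
    rw [S.br_coe, OneMemClass.coe_one, commutatorElement_eq_one_iff_commute]
    exact ((Commute.refl (x : G)).pow_right 2).pow_right m)
  rcases F.cases_a v with h | ⟨-, hbr⟩ | ⟨-, hbr⟩ | ⟨-, hbr⟩
  · exact hm2 h
  · exact h1 ((hbr x).symm.trans hxv)
  · exact h2 ((hbr x).symm.trans hxv)
  · exact h3 ((hbr x).symm.trans hxv)

theorem card_range_le_four (hG : IsPGroup 2 G)
    (h8 : ∀ A : Subgroup G, A.Normal → IsMulCommutative A → (∀ a ∈ A, a ^ 2 = 1) → Nat.card A ≤ 4)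
    {u : ↥S.E × ↥S.E} (hu : F.IsInv u) (hu1 : u.1 ≠ 1) : Nat.card F.U₀ ≤ 4 := by
  have hnot := F.one_z_notMem hG h8 hu hu1
  obtain ⟨y, rfl, hy2, hno⟩ := hu
  have hK : S.K ≠ ⊤ := fun h => F.not_invariant hG h8 hy2 hno
    (fun h1 => hu1 (congrArg Prod.fst h1))
    fun g => (F.θ_conj_mem (h ▸ mem_top g) y).symm
  obtain ⟨g, -, hg⟩ := SetLike.exists_of_lt (lt_top_iff_ne_top.2 hK)
  have hidx : S.K.index = 2 := by
    have h1 := F.index2
    have h2 : S.K.index ≠ 1 := fun h => hK (Subgroup.index_eq_one.1 h)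
    have h3 : S.K.index ≠ 0 := Subgroup.index_ne_zero_of_finite
    omega
  have hgg : g * g ∈ S.K := by
    rw [Subgroup.mul_mem_iff_of_index_two hidx]
  set c : ↥S.K →* ↥S.K := (MulAut.conjNormal g).toMonoidHom
  have hc : ∀ k : ↥S.K, c k = ⟨g * k * g⁻¹, (inferInstance : S.K.Normal).conj_mem _ k.2 g⟩ :=
    fun k => Subtype.ext (by simp [c])
  have hcc : ∀ k : ↥S.K, F.θ (c (c k)) = F.θ k := by
    intro k
    rw [hc (c k), ← F.θ_conj_mem hgg k]
    congr 1
    apply Subtype.ext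
    show g * (c k : G) * g⁻¹ = g * g * (k : G) * (g * g)⁻¹
    rw [hc k]
    group
  have hker : ∀ k ∈ F.θ.ker, c k ∈ F.θ.ker := by
    intro k hk
    rw [MonoidHom.mem_ker, F.θ_eq_one, hc]
    exact (inferInstance : S.C.Normal).conj_mem _ (F.θ_eq_one.1 hk) g
  set X := ((F.θ.comp c).eqLocus F.θ).map F.θ with hX
  have hX2 : Nat.card X ≤ 2 := by
    refine (F.card_fixed_le X ?_).2 fun h => hnot (Subgroup.map_le_range _ _ h)
    rintro _ ⟨k, hk, rfl⟩
    refine F.fixed_cases hg ?_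
    rw [← hc k]
    exact hk
  have hj : (F.θ.comp c / F.θ).range ≤ X := by
    rintro _ ⟨k, rfl⟩
    refine ⟨c k * k⁻¹, ?_, ?_⟩
    · show F.θ (c (c k * k⁻¹)) = F.θ (c k * k⁻¹)
      have hexp : ∀ w : ↥S.E × ↥S.E, w⁻¹ = w := fun w => inv_eq_of_mul_eq_one_left
        (Prod.ext (S.E_sq _) (S.E_sq _))
      simp only [map_mul, map_inv, hcc, hexp]
      exact mul_comm _ _
    · rw [map_mul, map_inv, MonoidHom.div_apply, MonoidHom.comp_apply, div_eq_mul_inv]
  show Nat.card F.θ.range ≤ 4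
  rw [card_range_eq F.θ c hker]
  exact (Nat.mul_le_mul ((Nat.card_le_card_of_injective _ (Subgroup.inclusion_injective hj)).trans
    hX2) hX2).trans (by norm_num)

/-- A large image contains the value of an element with square outside `Φ(C)`. -/
theorem large_image (hG : IsPGroup 2 G)
    (h8 : ∀ A : Subgroup G, A.Normal → IsMulCommutative A → (∀ a ∈ A, a ^ 2 = 1) → Nat.card A ≤ 4)
    (U : Subgroup (↥S.E × ↥S.E)) (hU : U ≤ F.U₀) (hcard : 4 < Nat.card U) :
    Nat.card U ≤ 8 ∧ ∃ u ∈ U, ∀ x : ↥S.K, F.θ x = u → (x : G) ^ 2 ∉ F.ΦC := by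
  have hbig : 4 < Nat.card F.U₀ :=
    hcard.trans_le (Nat.card_le_card_of_injective _ (Subgroup.inclusion_injective hU))
  have hInv : ∀ u, F.IsInv u → u.1 ≠ 1 → False := fun u h1 h2 =>
    hbig.not_ge (F.card_range_le_four hG h8 h1 h2)
  have hee := S.E_sq F.e
  have hzz := S.E_sq F.z
  have hze := F.ze_ne_one
  have hez : F.e * F.z ≠ 1 := mul_comm F.z F.e ▸ hze
  have hzee : F.z * F.e * F.e = F.z := by rw [mul_assoc, hee, mul_one]
  have hzez : F.z * F.e * F.z = F.e := by rw [mul_comm F.z F.e, mul_assoc, hzz, mul_one]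
  have hnW : ∀ u : ↥S.E × ↥S.E, u = (F.e, F.z * F.e) ∨ u = (F.z * F.e, F.z) → u ∉ U := by
    intro u hu hmem
    obtain ⟨x, rfl⟩ := hU hmem
    rcases hu with hu | hu
    · have e1 : S.br F.a1 x = F.e := congrArg Prod.fst hu
      have e2 : S.br F.a2 x = F.z * F.e := congrArg Prod.snd hu
      refine hInv _ (F.isInv_of_inj hG (F.noInv_of x ?_ ?_ ?_) ?_ ?_ ?_) ?_
      · rw [e1]; exact hez
      · rw [e2, hzee]; exact F.hz1
      · rw [e1, e2, hzee, mul_assoc, hzz, mul_one]; exact F.he1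
      · rw [hu]; exact F.he1
      · rw [hu]; exact hze
      · rw [hu]; show F.e * (F.z * F.e) ≠ 1
        rw [mul_comm, hzee]; exact F.hz1
      · rw [hu]; exact F.he1
    · have e1 : S.br F.a1 x = F.z * F.e := congrArg Prod.fst hu
      have e2 : S.br F.a2 x = F.z := congrArg Prod.snd hu
      refine hInv _ (F.isInv_of_inj hG (F.noInv_of x ?_ ?_ ?_) ?_ ?_ ?_) ?_
      · rw [e1, hzez]; exact F.he1
      · rw [e2]; exact hze
      · rw [e1, e2, hzez, mul_comm, hzee]; exact F.hz1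
      · rw [hu]; exact hze
      · rw [hu]; exact F.hz1
      · rw [hu]; show F.z * F.e * F.z ≠ 1
        rw [hzez]; exact F.he1
      · rw [hu]; exact hze
  have hV : Nat.card (↥S.E × ↥S.E) = 16 := by rw [Nat.card_prod, F.card4]
  have hidx : U.index = 2 := by
    have h1 := U.card_mul_index
    rw [hV] at h1
    have h2 : U.index ≠ 1 := fun h => hnW (F.e, F.z * F.e) (Or.inl rfl)
      (Subgroup.index_eq_one.1 h ▸ mem_top _)
    have h3 : U.index ∣ 16 := ⟨Nat.card U, by rw [← h1, mul_comm]⟩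
    have h4 : U.index < 4 := by
      by_contra h
      rw [not_lt] at h
      have := Nat.mul_le_mul (Nat.succ_le_of_lt hcard) h
      omega
    have h5 : 0 < U.index := Nat.pos_of_ne_zero Subgroup.index_ne_zero_of_finite
    interval_cases hi : U.index <;> simp_all
  refine ⟨?_, ?_⟩
  · have h1 := U.card_mul_index
    rw [hV, hidx] at h1
    omega
  have hI : ((F.z, F.e) : ↥S.E × ↥S.E) ∈ U := by
    have hW : ((F.e, F.z * F.e) * (F.z * F.e, F.z) : ↥S.E × ↥S.E) = (F.z, F.e) := by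
      refine Prod.ext ?_ ?_
      · show F.e * (F.z * F.e) = F.z
        rw [mul_comm, hzee]
      · exact hzez
    rw [← hW, Subgroup.mul_mem_iff_of_index_two hidx]
    exact iff_of_false (hnW _ (Or.inl rfl)) (hnW _ (Or.inr rfl))
  by_cases hN1 : ((1, F.z) : ↥S.E × ↥S.E) ∈ U
  · exact ⟨_, hN1, fun x hx => F.sq_notMem_of_one_z hG h8 hx⟩
  have hN : ((F.e, 1) : ↥S.E × ↥S.E) ∈ U ∨ ((F.z * F.e, F.z * F.e) : ↥S.E × ↥S.E) ∈ U := by
    by_contra hcon
    simp only [not_or] at hcon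
    have h1 : ((F.e, F.z) : ↥S.E × ↥S.E) ∈ U := by
      have : ((1, F.z) * (F.e, 1) : ↥S.E × ↥S.E) = (F.e, F.z) :=
        Prod.ext (one_mul _) (mul_one _)
      rw [← this, Subgroup.mul_mem_iff_of_index_two hidx]
      exact iff_of_false hN1 hcon.1
    refine hcon.2 ?_
    have : ((F.e, F.z) * (F.z, F.e) : ↥S.E × ↥S.E) = (F.z * F.e, F.z * F.e) :=
      Prod.ext (mul_comm _ _) rfl
    exact this ▸ mul_mem h1 hI
  rcases hN with hN | hN
  · refine ⟨_, hN, fun x hx hmem => ?_⟩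
    obtain ⟨y, hy, hy2⟩ := F.exists_sq_mem_E hG hmem
    rw [hx] at hy
    have e1 : S.br F.a1 y = F.e := congrArg Prod.fst hy
    have e2 : S.br F.a2 y = 1 := congrArg Prod.snd hy
    refine hInv _ (F.isInv_of_sq_mem hy2 (F.noInv_of y ?_ ?_ ?_)) ?_
    · rw [e1]; exact hez
    · rw [e2, one_mul]; exact F.he1
    · rw [e1, e2, one_mul, mul_comm F.e F.z, hzee]; exact F.hz1
    · rw [hy]; exact F.he1
  · refine ⟨_, hN, fun x hx hmem => ?_⟩
    obtain ⟨y, hy, hy2⟩ := F.exists_sq_mem_E hG hmem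
    rw [hx] at hy
    have e1 : S.br F.a1 y = F.z * F.e := congrArg Prod.fst hy
    have e2 : S.br F.a2 y = F.z * F.e := congrArg Prod.snd hy
    refine hInv _ (F.isInv_of_sq_mem hy2 (F.noInv_of y ?_ ?_ ?_)) ?_
    · rw [e1, hzez]; exact F.he1
    · rw [e2, hzee]; exact F.hz1
    · rw [e1, e2, hzez, hzee]; exact hez
    · rw [hy]; exact hze

end Full

end CfsgLib.PGroups.MacWilliams
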