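import Cfsg.Agent.Lib.PGroups.MacWilliams.Hyp

/-!
# A maximal normal abelian subgroup of exponent dividing four

Alperin's lemma: it contains every element of order dividing four of its centralizer. Basic data
used for MacWilliams' four generator theorem.
-/

set_option autoImplicit false
set_option linter.unusedSectionVars false
set_option linter.style.haveILetI false

namespace CfsgLib.PGroups.MacWilliams

open Subgroup
open scoped commutatorElement

/-- A normal abelian subgroup of exponent dividing four containing all elements of order dividing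
four of its centralizer. -/
structure Setup (G : Type*) [Group G] where
  A : Subgroup G
  normal : A.Normal
  comm : ∀ a ∈ A, ∀ b ∈ A, a * b = b * a
  exp4 : ∀ a ∈ A, a ^ 4 = 1
  inA : ∀ x : G, (∀ a ∈ A, a * x = x * a) → x ^ 4 = 1 → x ∈ A

variable {G : Type*} [Group G] [Finite G]

/-- An element `u` whose square is inverted, the elements of order dividing four near it being
fixed, has order dividing four. -/
theorem pow_four_eq_one_of_inverted (hG : IsPGroup 2 G) {x u : G}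
    (hinv : x * u ^ 2 * x⁻¹ = (u ^ 2)⁻¹)
    (hfix : ∀ m : ℕ, ((u ^ 2) ^ m) ^ 4 = 1 → x * (u ^ 2) ^ m * x⁻¹ = (u ^ 2) ^ m) :
    u ^ 4 = 1 := by
  by_contra h4
  obtain ⟨m, hm1, hm2⟩ := exists_pow_order_four hG (c := u ^ 2) (by rwa [← pow_mul])
  have h1 := hfix m hm1
  rw [← conj_pow, hinv, inv_pow] at h1
  exact hm2 (by rw [pow_two]; nth_rewrite 1 [← h1]; rw [inv_mul_cancel])

theorem exists_setup (hG : IsPGroup 2 G) : Nonempty (Setup G) := by
  haveI : Fact (Nat.Prime 2) := ⟨Nat.prime_two⟩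
  set F : Set (Subgroup G) := {A | A.Normal ∧ (∀ a ∈ A, ∀ b ∈ A, a * b = b * a) ∧
    ∀ a ∈ A, a ^ 4 = 1}
  obtain ⟨A, hA, hmax⟩ := Set.Finite.exists_maximal (s := F) (Set.toFinite _)
    ⟨⊥, inferInstance, by simp, by simp⟩
  obtain ⟨hAn, hAc, hA4⟩ := hA
  refine ⟨⟨A, hAn, hAc, hA4, ?_⟩⟩
  haveI := hAn
  set C := centralizer (A : Set G) with hC
  haveI : C.Normal := inferInstance
  by_contra hcon
  simp only [not_forall] at hcon
  obtain ⟨x₀, hx₀c, hx₀4, hx₀A⟩ := hcon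
  set T : Set (Subgroup G) := {D | D.Normal ∧ A ≤ D ∧ D ≤ C ∧ ∃ x ∈ D, x ^ 4 = 1 ∧ x ∉ A}
  obtain ⟨D, hD, hmin⟩ := Set.Finite.exists_minimal (s := T) (Set.toFinite _)
    ⟨C, inferInstance, fun a ha => mem_centralizer_iff.2 fun b hb => hAc b hb a ha, le_rfl,
      x₀, mem_centralizer_iff.2 hx₀c, hx₀4, hx₀A⟩
  obtain ⟨hDn, hAD, hDC, x, hxD, hx4, hxA⟩ := hD
  haveI := hDn
  set D₁ := ⁅D, (⊤ : Subgroup G)⁆ ⊔ A with hD₁
  haveI : D₁.Normal := inferInstance
  have hD₁D : D₁ ≤ D := sup_le (commutator_le_left D ⊤) hAD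
  have hD₁ne : D₁ ≠ D := by
    intro he
    set π := QuotientGroup.mk' A
    haveI : (D.map π).Normal := hDn.map π (QuotientGroup.mk'_surjective A)
    have hne : D.map π ≠ ⊥ := fun h0 => hxA (by
      rw [Subgroup.map_eq_bot_iff, QuotientGroup.ker_mk'] at h0
      exact h0 hxD)
    refine (commutator_top_lt (hG.to_quotient A) hne).ne ?_
    conv_rhs => rw [← he, hD₁, Subgroup.map_sup, Subgroup.map_commutator,
      map_top_of_surjective π (QuotientGroup.mk'_surjective A), QuotientGroup.map_mk'_self,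
      sup_bot_eq]
  have hsmall : ∀ u ∈ D₁, u ^ 4 = 1 → u ∈ A := fun u hu hu4 => by
    by_contra hn
    exact hD₁ne (le_antisymm hD₁D (hmin ⟨inferInstance, le_sup_right, hD₁D.trans hDC, u, hu, hu4, hn⟩
      hD₁D))
  have hcent : ∀ d ∈ D, ∀ a ∈ A, a * d = d * a := fun d hd a ha =>
    mem_centralizer_iff.1 (hDC hd) a ha
  -- `x ^ 2` lies in `A`
  have hx2 : x ^ 2 ∈ A := by
    by_contra hx2
    set D₃ := D₁ ⊔ zpowers (x ^ 2)
    have hD₃D : D₃ ≤ D := sup_le hD₁D (zpowers_le.2 (pow_mem hxD 2))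
    have hD₃n : D₃.Normal := by
      refine ⟨fun w hw g => ?_⟩
      rw [show g * w * g⁻¹ = ⁅g, w⁆ * w by rw [commutatorElement_def]; group]
      refine mul_mem (mem_sup_left (mem_sup_left ?_)) hw
      rw [Subgroup.commutator_comm]
      exact commutator_mem_commutator (mem_top g) (hD₃D hw)
    have h3 : D ≤ D₃ := hmin ⟨hD₃n, (le_sup_right : A ≤ D₁).trans le_sup_left, hD₃D.trans hDC,
      x ^ 2, mem_sup_right (mem_zpowers _), by rw [← pow_mul, mul_comm, pow_mul, hx4, one_pow], hx2⟩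
      hD₃D
    obtain ⟨d, hd, _, hy, hdy⟩ := Subgroup.mem_sup_of_normal_left.1 (h3 hxD)
    obtain ⟨k, rfl⟩ := mem_zpowers_iff.1 hy
    have hd' : d = x ^ (1 - 2 * k) := by
      rw [show d = x * ((x ^ 2) ^ k)⁻¹ from eq_mul_inv_of_mul_eq hdy, ← zpow_natCast, ← zpow_mul,
        zpow_sub, zpow_one]
      norm_num
    have hx2' : (x ^ 2) ^ 2 = 1 := by rw [← pow_mul]; exact hx4
    rcases Int.even_or_odd k with ⟨j, rfl⟩ | ⟨j, rfl⟩
    · have hdx : d = x := by
        rw [hd', show 1 - 2 * (j + j) = 1 + 4 * (-j) by ring, zpow_add, zpow_one, zpow_mul,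
          show x ^ (4 : ℤ) = 1 by exact_mod_cast hx4, one_zpow, mul_one]
      exact hxA (hsmall x (hdx ▸ hd) hx4)
    · have hdx : d = x⁻¹ := by
        rw [hd', show 1 - 2 * (2 * j + 1) = -1 + 4 * (-j) by ring, zpow_add, zpow_neg_one, zpow_mul,
          show x ^ (4 : ℤ) = 1 by exact_mod_cast hx4, one_zpow, mul_one]
      exact hxA (hsmall x (inv_mem_iff.1 (hdx ▸ hd)) hx4)
  -- every commutator with `x` lies in `A`
  have hxg : ∀ g : G, g * x * g⁻¹ * x⁻¹ ∈ A := by
    intro g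
    set u := g * x * g⁻¹ * x⁻¹ with hu
    have huD : u ∈ D₁ := mem_sup_left (by
      rw [Subgroup.commutator_comm]
      exact commutator_mem_commutator (mem_top g) hxD)
    set e := x ^ 2 with he
    set e' := g * e * g⁻¹ with he'
    have he'A : e' ∈ A := hAn.conj_mem e hx2 g
    have hee : u * x * u * x = e' := by
      rw [he', he, hu, ← conj_pow, pow_two]; group
    have hf2 : ∀ a ∈ A, a ^ 2 = 1 → a⁻¹ = a := fun a _ h2 => by
      rw [inv_eq_iff_mul_eq_one, ← pow_two, h2]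
    have he2 : e ^ 2 = 1 := by rw [he, ← pow_mul]; exact hx4
    have he'2 : e' ^ 2 = 1 := by rw [he', conj_pow, he2, mul_one, mul_inv_cancel]
    set f := e' * e⁻¹ with hf
    have hfA : f ∈ A := mul_mem he'A (inv_mem hx2)
    have hf2' : f ^ 2 = 1 := by
      rw [hf, (show Commute e' e⁻¹ from hAc _ he'A _ (inv_mem hx2)).mul_pow, inv_pow, he2, he'2,
        inv_one, one_mul]
    have hconj : x * u * x⁻¹ = u⁻¹ * f := by
      have h1 : x * u * x = u⁻¹ * e' := by rw [← hee]; group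
      calc x * u * x⁻¹ = (x * u * x) * (x ^ 2)⁻¹ := by rw [pow_two]; group
        _ = u⁻¹ * e' * e⁻¹ := by rw [h1]
        _ = u⁻¹ * f := by rw [hf, mul_assoc]
    refine hsmall u huD (pow_four_eq_one_of_inverted hG (x := x) ?_ fun m hm => ?_)
    · rw [← conj_pow, hconj, (show Commute u⁻¹ f from (Commute.inv_left
        (hcent u (hD₁D huD) f hfA).symm)).mul_pow, hf2', mul_one, inv_pow]
    · rw [← hcent x hxD _ (hsmall _ (pow_mem (pow_mem huD 2) m) hm), mul_inv_cancel_right]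
  -- so `A⟨x⟩` contradicts the maximality of `A`
  set B := A ⊔ zpowers x
  have hBn : B.Normal := by
    refine ⟨fun w hw g => ?_⟩
    obtain ⟨a, ha, _, hy, rfl⟩ := Subgroup.mem_sup_of_normal_left.1 hw
    obtain ⟨k, rfl⟩ := mem_zpowers_iff.1 hy
    rw [show g * (a * x ^ k) * g⁻¹ = g * a * g⁻¹ * (g * x ^ k * g⁻¹) by group, ← conj_zpow]
    refine mul_mem (mem_sup_left (hAn.conj_mem a ha g)) (zpow_mem ?_ k)
    rw [show g * x * g⁻¹ = g * x * g⁻¹ * x⁻¹ * x by group]
    exact mul_mem (mem_sup_left (hxg g)) (mem_sup_right (mem_zpowers x))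
  have hBmem : ∀ w ∈ B, ∃ a ∈ A, ∃ k : ℤ, w = a * x ^ k := fun w hw => by
    obtain ⟨a, ha, _, hy, rfl⟩ := Subgroup.mem_sup_of_normal_left.1 hw
    obtain ⟨k, rfl⟩ := mem_zpowers_iff.1 hy
    exact ⟨a, ha, k, rfl⟩
  have hax : ∀ a ∈ A, Commute a x := fun a ha => hcent x hxD a ha
  have hBc : ∀ a ∈ B, ∀ b ∈ B, a * b = b * a := by
    intro v hv w hw
    obtain ⟨a, ha, k, rfl⟩ := hBmem v hv
    obtain ⟨b, hb, l, rfl⟩ := hBmem w hw
    exact Commute.mul_left ((Commute.mul_right (hAc a ha b hb : Commute a b) ((hax a ha).zpow_right l)))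
      (Commute.mul_right ((hax b hb).zpow_right k).symm ((Commute.refl x).zpow_zpow k l))
  have hB4 : ∀ a ∈ B, a ^ 4 = 1 := by
    intro v hv
    obtain ⟨a, ha, k, rfl⟩ := hBmem v hv
    rw [((hax a ha).zpow_right k).mul_pow, hA4 a ha, one_mul, ← zpow_natCast, ← zpow_mul,
      mul_comm, zpow_mul, zpow_natCast, hx4, one_zpow]
  exact hxA (hmax ⟨hBn, hBc, hB4⟩ le_sup_left (mem_sup_right (mem_zpowers x)))

namespace Setup

variable (S : Setup G)

/-- The elements of order at most two in `A`. -/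
def E : Subgroup G where
  carrier := {a | a ∈ S.A ∧ a ^ 2 = 1}
  one_mem' := ⟨one_mem _, one_pow 2⟩
  mul_mem' := fun {a b} ha hb => ⟨mul_mem ha.1 hb.1, by
    rw [(show Commute a b from S.comm a ha.1 b hb.1).mul_pow, ha.2, hb.2, one_mul]⟩
  inv_mem' := fun {a} ha => ⟨inv_mem ha.1, by rw [inv_pow, ha.2, inv_one]⟩

theorem mem_E {a : G} : a ∈ S.E ↔ a ∈ S.A ∧ a ^ 2 = 1 := Iff.rfl

instance : S.A.Normal := S.normal

instance : S.E.Normal :=
  ⟨fun a ha g => ⟨S.normal.conj_mem a ha.1 g, by rw [conj_pow, ha.2, mul_one, mul_inv_cancel]⟩⟩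

/-- The centralizer of `A`. -/
def C : Subgroup G := centralizer (S.A : Set G)

/-- The centralizer of `E`. -/
def K : Subgroup G := centralizer (S.E : Set G)

instance : S.C.Normal := inferInstanceAs (centralizer (S.A : Set G)).Normal

instance : S.K.Normal := inferInstanceAs (centralizer (S.E : Set G)).Normal

theorem mem_C {x : G} : x ∈ S.C ↔ ∀ a ∈ S.A, a * x = x * a := mem_centralizer_iff

theorem mem_K {x : G} : x ∈ S.K ↔ ∀ a ∈ S.E, a * x = x * a := mem_centralizer_iff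

theorem C_le_K : S.C ≤ S.K := fun _ hx => S.mem_K.2 fun a ha => S.mem_C.1 hx a ha.1

theorem A_le_C : S.A ≤ S.C := fun a ha => S.mem_C.2 fun b hb => S.comm b hb a ha

theorem E_le_A : S.E ≤ S.A := fun _ ha => ha.1

theorem mem_A_of_mem_C {x : G} (hx : x ∈ S.C) (h4 : x ^ 4 = 1) : x ∈ S.A :=
  S.inA x (S.mem_C.1 hx) h4

theorem mem_E_of_mem_C {x : G} (hx : x ∈ S.C) (h2 : x ^ 2 = 1) : x ∈ S.E :=
  ⟨S.mem_A_of_mem_C hx (by rw [show (4 : ℕ) = 2 * 2 from rfl, pow_mul, h2, one_pow]), h2⟩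

theorem hyp4_of_le {D : Subgroup G} (hD : D ≤ S.C) : Hyp4 D := fun x hx =>
  mem_center_iff.2 fun y => Subtype.ext
    ((S.mem_C.1 (hD y.2) (x : G) (S.mem_A_of_mem_C (hD x.2)
      (by simpa using congrArg Subtype.val hx))).symm)

theorem card_solutions_le {D : Subgroup G} (hD : D ≤ S.C) :
    Nat.card {x : D // x ^ 2 = 1} ≤ Nat.card S.E :=
  Nat.card_le_card_of_injective
    (fun x => (⟨((x.1 : D) : G), S.mem_E_of_mem_C (hD x.1.2)
      (by simpa using congrArg Subtype.val x.2)⟩ : S.E))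
    fun a b hab => Subtype.ext (Subtype.ext (congrArg (fun z : S.E => (z : G)) hab))

/-- The elements of `C` are inverted by no involution outside, up to `E`. -/
theorem mem_E_of_inverted (hG : IsPGroup 2 G) {y c : G} (hc : c ∈ S.C)
    (hinj : ∀ a ∈ S.A, y * a * y⁻¹ = a⁻¹ → a ^ 2 = 1)
    (hyc : y * c * y⁻¹ = c⁻¹) : c ∈ S.E := by
  refine S.mem_E_of_mem_C hc (by_contra fun h2 => ?_)
  obtain ⟨m, hm4, hm2⟩ := exists_pow_order_four hG h2
  refine hm2 (hinj _ (S.mem_A_of_mem_C (pow_mem hc m) hm4) ?_)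
  rw [← conj_pow, hyc, inv_pow]

end Setup

end CfsgLib.PGroups.MacWilliams
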